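import Mathlib.Algebra.BigOperators.Field
import Mathlib.Algebra.Order.BigOperators.Ring.Finset
import Mathlib.Data.Rat.Cast.Defs
import Mathlib.Data.Fintype.BigOperators
import Mathlib.Tactic

/-!
# Three columns on an involution section

No family of degrees with at most one linear member carries three integral columns of norm 4 and
pairwise inner product 2, orthogonal to the degrees, with equal weighted sums.
-/

set_option autoImplicit false
set_option linter.unusedSectionVars false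

namespace CfsgLib.EightTwentyOne

open Finset

variable {ι : Type*} [Fintype ι] [DecidableEq ι]

/-- The support of an integral column. -/
def supp (d : ι → ℤ) : Finset ι := univ.filter fun r => d r ≠ 0

theorem mem_supp {d : ι → ℤ} {r : ι} : r ∈ supp d ↔ d r ≠ 0 := by simp [supp]

theorem sum_supp {R : Type*} [Ring R] {d : ι → ℤ} (f : ι → R) :
    ∑ r, f r * (d r : R) = ∑ r ∈ supp d, f r * (d r : R) := by
  refine (sum_subset (subset_univ _) fun r _ hr => ?_).symm
  rw [mem_supp, not_not] at hr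
  simp [hr]

theorem eq_or_eq_neg_of_norm {d : ι → ℤ} {x : ι → ℤ} (hx : ∀ r, 0 < x r)
    (hn : ∑ r, d r * d r = 4) (hdeg : ∑ r, x r * d r = 0) (r : ι) :
    d r = 0 ∨ d r = 1 ∨ d r = -1 := by
  by_contra h
  have h2 : 4 ≤ d r * d r := by
    rcases le_or_gt 2 (d r) with h' | h'
    · nlinarith
    · have : d r ≤ -2 := by omega
      nlinarith
  have hz : ∀ s, s ≠ r → d s = 0 := by
    intro s hs
    have hle := sum_le_sum_of_subset_of_nonneg (f := fun i => d i * d i) (subset_univ {r, s})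
      fun i _ _ => mul_self_nonneg _
    rw [sum_pair (Ne.symm hs), hn] at hle
    exact mul_self_eq_zero.1 (le_antisymm (by linarith) (mul_self_nonneg _))
  rw [Fintype.sum_eq_single r fun s hs => by rw [hz s hs, mul_zero]] at hdeg
  rcases mul_eq_zero.1 hdeg with h' | h'
  · exact absurd h' (hx r).ne'
  · omega

theorem card_supp {d : ι → ℤ} (hd : ∀ r, d r = 0 ∨ d r = 1 ∨ d r = -1)
    (hn : ∑ r, d r * d r = 4) : (supp d).card = 4 := by
  have h := sum_supp (R := ℤ) (d := d) (fun r => d r)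
  simp only [Int.cast_id] at h
  rw [hn] at h
  have h1 : ∑ r ∈ supp d, d r * d r = ((supp d).card : ℤ) := by
    rw [card_eq_sum_ones, Nat.cast_sum]
    refine sum_congr rfl fun r hr => ?_
    rcases hd r with e | e | e
    · exact absurd e (mem_supp.1 hr)
    all_goals simp [e]
  omega

/-- A sum of two on products of signs: every product is positive when there are two. -/
theorem agree {d e : ι → ℤ} (hd : ∀ r, d r = 0 ∨ d r = 1 ∨ d r = -1)
    (he : ∀ r, e r = 0 ∨ e r = 1 ∨ e r = -1) (hde : ∑ r, d r * e r = 2) :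
    2 ≤ (supp d ∩ supp e).card ∧ (supp d ∩ supp e).card ≠ 3 ∧
      ((supp d ∩ supp e).card = 2 → ∀ r ∈ supp d ∩ supp e, e r = d r) := by
  have h1 : ∑ r, d r * e r = ∑ r ∈ supp d ∩ supp e, d r * e r := by
    refine (sum_subset (subset_univ _) fun r _ hr => ?_).symm
    rw [mem_inter, mem_supp, mem_supp] at hr
    rcases not_and_or.1 hr with h | h <;> rw [not_not] at h <;> simp [h]
  rw [hde] at h1
  have hval : ∀ r ∈ supp d ∩ supp e, d r * e r = 1 - 2 * (if d r = e r then 0 else 1) := by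
    intro r hr
    rw [mem_inter, mem_supp, mem_supp] at hr
    rcases hd r with a | a | a <;> rcases he r with b | b | b <;>
      first | exact absurd a hr.1 | exact absurd b hr.2 | (rw [a, b]; norm_num)
  rw [sum_congr rfl hval, sum_sub_distrib, ← mul_sum, sum_const, nsmul_eq_mul, mul_one,
    sum_ite, sum_const_zero, zero_add, sum_const, nsmul_eq_mul, mul_one] at h1
  refine ⟨by omega, by omega, fun h2 r hr => ?_⟩
  by_contra hne
  have : 0 < ((supp d ∩ supp e).filter fun i => ¬ d i = e i).card :=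
    card_pos.2 ⟨r, mem_filter.2 ⟨hr, fun h => hne h.symm⟩⟩
  omega

theorem not_four {d e x : ι → ℤ} (hx : ∀ r, 0 < x r) (hd : ∀ r, d r = 0 ∨ d r = 1 ∨ d r = -1)
    (he : ∀ r, e r = 0 ∨ e r = 1 ∨ e r = -1) (hcd : (supp d).card = 4)
    (hce : (supp e).card = 4) (hde : ∑ r, d r * e r = 2) (hxd : ∑ r, x r * d r = 0)
    (hxe : ∑ r, x r * e r = 0) : (supp d ∩ supp e).card = 2 := by
  obtain ⟨h2, h3, -⟩ := agree hd he hde
  have h4 : (supp d ∩ supp e).card ≤ 4 := hcd ▸ card_le_card inter_subset_left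
  by_contra hne
  have hcard : (supp d ∩ supp e).card = 4 := by omega
  have hid : supp d ∩ supp e = supp d := eq_of_subset_of_card_le inter_subset_left (by omega)
  have hie : supp d ∩ supp e = supp e := eq_of_subset_of_card_le inter_subset_right (by omega)
  -- the difference lives on a single member
  have hnorm : ∑ r, (d r - e r) * (d r - e r) = 4 := by
    have h1 : ∑ r, d r * d r = 4 := by
      have := sum_supp (R := ℤ) (d := d) (fun r => d r)
      simp only [Int.cast_id] at this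
      rw [this, show (4 : ℤ) = ((supp d).card : ℤ) by rw [hcd]; rfl, card_eq_sum_ones, Nat.cast_sum]
      refine sum_congr rfl fun r hr => ?_
      rcases hd r with a | a | a
      · exact absurd a (mem_supp.1 hr)
      all_goals simp [a]
    have h2' : ∑ r, e r * e r = 4 := by
      have := sum_supp (R := ℤ) (d := e) (fun r => e r)
      simp only [Int.cast_id] at this
      rw [this, show (4 : ℤ) = ((supp e).card : ℤ) by rw [hce]; rfl, card_eq_sum_ones, Nat.cast_sum]
      refine sum_congr rfl fun r hr => ?_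
      rcases he r with a | a | a
      · exact absurd a (mem_supp.1 hr)
      all_goals simp [a]
    rw [sum_congr rfl fun r _ => show (d r - e r) * (d r - e r) =
      d r * d r - 2 * (d r * e r) + e r * e r by ring, sum_add_distrib, sum_sub_distrib,
      ← mul_sum, h1, h2', hde]
    norm_num
  have hdeg : ∑ r, x r * (d r - e r) = 0 := by
    simp [mul_sub, sum_sub_distrib, hxd, hxe]
  rcases (show ∃ r, d r - e r ≠ 0 by
    by_contra! h
    simp [h] at hnorm) with ⟨r, hr⟩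
  have hsame : r ∈ supp d ∧ r ∈ supp e := by
    by_cases h : r ∈ supp d
    · exact ⟨h, (hie ▸ hid).symm ▸ h⟩
    · have h' : r ∉ supp e := fun hh => h ((hid ▸ hie).symm ▸ hh)
      rw [mem_supp, not_not] at h h'
      exact absurd (by rw [h, h']; ring) hr
  rcases eq_or_eq_neg_of_norm hx hnorm hdeg r with h | h | h
  · exact hr h
  all_goals
    have h1 := mem_supp.1 hsame.1
    have h2 := mem_supp.1 hsame.2
    rcases hd r with a | a | a <;> rcases he r with b | b | b <;> omega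

theorem sum_quad {R : Type*} [Ring R] (d : ι → ℤ) (f : ι → R) {a b c e : ι}
    (h : supp d = {a, b, c, e}) (hne : (supp d).card = 4) :
    ∑ r, f r * (d r : R) = f a * d a + f b * d b + f c * d c + f e * d e := by
  rw [sum_supp, h]
  rw [h] at hne
  have hab : a ∉ ({b, c, e} : Finset ι) := fun hm => by
    rw [insert_eq_of_mem hm] at hne
    have : ({b, c, e} : Finset ι).card ≤ 3 := card_le_three
    omega
  rw [sum_insert hab]
  rw [card_insert_of_notMem hab] at hne
  have hbc : b ∉ ({c, e} : Finset ι) := fun hm => by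
    rw [insert_eq_of_mem hm] at hne
    have : ({c, e} : Finset ι).card ≤ 2 := card_le_two
    omega
  rw [sum_insert hbc]
  rw [card_insert_of_notMem hbc] at hne
  have hce : c ∉ ({e} : Finset ι) := fun hm => by
    rw [insert_eq_of_mem hm, card_singleton] at hne
    omega
  rw [sum_insert hce, sum_singleton]
  simp only [add_assoc]

/-- The main combinatorial contradiction. -/
theorem false_of_columns (o : ι) (x d₀ d₁ d₂ : ι → ℤ) (ho : x o = 1)
    (hxo : ∀ r, r ≠ o → 2 ≤ x r) (h0 : d₀ o = 1) (h1 : d₁ o = 0) (h2 : d₂ o = 0)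
    (n0 : ∑ r, d₀ r * d₀ r = 4) (n1 : ∑ r, d₁ r * d₁ r = 4) (n2 : ∑ r, d₂ r * d₂ r = 4)
    (i01 : ∑ r, d₀ r * d₁ r = 2) (i02 : ∑ r, d₀ r * d₂ r = 2) (i12 : ∑ r, d₁ r * d₂ r = 2)
    (e0 : ∑ r, x r * d₀ r = 0) (e1 : ∑ r, x r * d₁ r = 0) (e2 : ∑ r, x r * d₂ r = 0)
    (hpos : ∀ r, 0 ≤ x r + 7 * (d₀ r + d₁ r + d₂ r))
    (h8 : ∀ r, 8 ∣ x r + 7 * (d₀ r + d₁ r + d₂ r))
    (hR : ∑ r, (((d₀ r + d₁ r + d₂ r) ^ 2 : ℤ) : ℚ) / (x r : ℚ) * (d₀ r : ℚ) =
      ∑ r, (((d₀ r + d₁ r + d₂ r) ^ 2 : ℤ) : ℚ) / (x r : ℚ) * (d₁ r : ℚ)) : False := by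
  have hx : ∀ r, 0 < x r := fun r => by
    rcases eq_or_ne r o with rfl | h
    · omega
    · have := hxo r h; omega
  have v0 := eq_or_eq_neg_of_norm hx n0 e0
  have v1 := eq_or_eq_neg_of_norm hx n1 e1
  have v2 := eq_or_eq_neg_of_norm hx n2 e2
  have c0 := card_supp v0 n0
  have c1 := card_supp v1 n1
  have c2 := card_supp v2 n2
  have o0 : o ∈ supp d₀ := mem_supp.2 (by omega)
  have o1 : o ∉ supp d₁ := fun h => mem_supp.1 h h1
  have o2 : o ∉ supp d₂ := fun h => mem_supp.1 h h2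
  obtain ⟨T, hT⟩ : ∃ T, T = (supp d₀).erase o := ⟨_, rfl⟩
  have cT : T.card = 3 := by rw [hT, card_erase_of_mem o0, c0]
  have hi01 := not_four hx v0 v1 c0 c1 i01 e0 e1
  have hi02 := not_four hx v0 v2 c0 c2 i02 e0 e2
  have hi12 := not_four hx v1 v2 c1 c2 i12 e1 e2
  have s01 := (agree v0 v1 i01).2.2 hi01
  have s02 := (agree v0 v2 i02).2.2 hi02
  have s12 := (agree v1 v2 i12).2.2 hi12
  have hA : ∀ {d : ι → ℤ}, o ∉ supp d → ∀ r ∈ supp d₀ ∩ supp d, r ∈ T := fun hd r hr => by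
    rw [hT, mem_erase]
    exact ⟨fun h => hd (h ▸ (mem_inter.1 hr).2), (mem_inter.1 hr).1⟩
  have hT0 : supp d₀ = insert o T := by rw [hT, insert_erase o0]
  have hxq : ∀ r, (x r : ℚ) ≠ 0 := fun r => by exact_mod_cast (hx r).ne'
  have nT : ∀ r ∈ T, r ≠ o := fun r hr => (mem_erase.1 (hT ▸ hr)).1
  by_cases hz : supp d₀ ∩ supp d₁ = supp d₀ ∩ supp d₂
  · -- both meet `T` in the same pair
    obtain ⟨A, B, hAB, hpair⟩ := card_eq_two.1 hi01
    have mA : A ∈ supp d₀ ∩ supp d₁ := by rw [hpair]; simp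
    have mB : B ∈ supp d₀ ∩ supp d₁ := by rw [hpair]; simp
    have mA2 : A ∈ supp d₀ ∩ supp d₂ := hz ▸ mA
    have mB2 : B ∈ supp d₀ ∩ supp d₂ := hz ▸ mB
    have h12 : supp d₁ ∩ supp d₂ = {A, B} := (eq_of_subset_of_card_le (fun r hr => by
      rw [← hpair] at hr
      exact mem_inter.2 ⟨(mem_inter.1 hr).2, (mem_inter.1 (hz ▸ hr)).2⟩)
      (by rw [hi12, card_pair hAB])).symm
    obtain ⟨a, ha⟩ := card_eq_one.1 (show (T \ {A, B}).card = 1 by
      rw [card_sdiff_of_subset (by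
        intro r hr
        exact hA o1 r (hpair.symm ▸ hr)), cT, card_pair hAB])
    obtain ⟨b, c, hbc, hbcS⟩ := card_eq_two.1 (show (supp d₁ \ {A, B}).card = 2 by
      rw [card_sdiff_of_subset (by
        intro r hr
        exact (mem_inter.1 (hpair.symm ▸ hr : r ∈ supp d₀ ∩ supp d₁)).2), c1, card_pair hAB])
    have haT : a ∈ T \ {A, B} := by rw [ha]; simp
    have hb : b ∈ supp d₁ \ {A, B} := by rw [hbcS]; simp
    have hc : c ∈ supp d₁ \ {A, B} := by rw [hbcS]; simp
    have hS0 : supp d₀ = {o, a, A, B} := by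
      rw [hT0, ← sdiff_union_of_subset (show ({A, B} : Finset ι) ⊆ T from fun r hr =>
        hA o1 r (hpair.symm ▸ hr)), ha]
      rfl
    have hS1 : supp d₁ = {b, c, A, B} := by
      rw [← sdiff_union_of_subset (show ({A, B} : Finset ι) ⊆ supp d₁ from fun r hr =>
        (mem_inter.1 (hpair.symm ▸ hr : r ∈ supp d₀ ∩ supp d₁)).2), hbcS]
      ext r
      simp only [mem_union, mem_insert, mem_singleton]
      tauto
    have a0 : a ∈ supp d₀ := by rw [hS0]; simp
    have ha1 : d₁ a = 0 := by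
      by_contra h
      exact (mem_sdiff.1 haT).2 (hpair ▸ mem_inter.2 ⟨a0, mem_supp.2 h⟩)
    have ha2 : d₂ a = 0 := by
      by_contra h
      exact (mem_sdiff.1 haT).2 (hpair ▸ hz.symm ▸ mem_inter.2 ⟨a0, mem_supp.2 h⟩)
    have hs : ∀ r ∈ supp d₁ \ ({A, B} : Finset ι), d₀ r = 0 ∧ d₂ r = 0 ∧ r ≠ o := by
      intro r hr
      obtain ⟨h, h'⟩ := mem_sdiff.1 hr
      refine ⟨?_, ?_, fun e => o1 (e ▸ h)⟩
      · by_contra hh
        exact h' (hpair ▸ mem_inter.2 ⟨mem_supp.2 hh, h⟩)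
      · by_contra hh
        exact h' (h12 ▸ mem_inter.2 ⟨h, mem_supp.2 hh⟩)
    obtain ⟨b0, b2, bo⟩ := hs b hb
    obtain ⟨c0', c2', co⟩ := hs c hc
    have ao : a ≠ o := nT a (mem_sdiff.1 haT).1
    have E0 := sum_quad (R := ℤ) d₀ x hS0 c0
    have E1 := sum_quad (R := ℤ) d₁ x hS1 c1
    simp only [Int.cast_id, e0, e1, h0, ho, s01 A mA, s01 B mB] at E0 E1
    have R := hR
    rw [sum_quad (R := ℚ) d₀ _ hS0 c0, sum_quad (R := ℚ) d₁ _ hS1 c1, s01 A mA, s01 B mB, h0, h1,
      h2, ho, ha1, ha2, b0, b2, c0', c2'] at R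
    have va : d₀ a = 1 ∨ d₀ a = -1 := (v0 a).resolve_left (mem_supp.1 a0)
    have vb : d₁ b = 1 ∨ d₁ b = -1 := (v1 b).resolve_left (mem_supp.1 (mem_sdiff.1 hb).1)
    have vc : d₁ c = 1 ∨ d₁ c = -1 := (v1 c).resolve_left (mem_supp.1 (mem_sdiff.1 hc).1)
    obtain ⟨Xa, hXa⟩ : ∃ Xa, Xa = x a * d₀ a := ⟨_, rfl⟩
    obtain ⟨Xb, hXb⟩ : ∃ Xb, Xb = x b * d₁ b := ⟨_, rfl⟩
    obtain ⟨Xc, hXc⟩ : ∃ Xc, Xc = x c * d₁ c := ⟨_, rfl⟩
    have hlin : Xb + Xc = 1 + Xa := by linarith
    have q : ∀ (r : ι) (s : ℤ), (s = 1 ∨ s = -1) →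
        ((s ^ 2 : ℤ) : ℚ) / (x r : ℚ) * (s : ℚ) = 1 / ((x r * s : ℤ) : ℚ) := by
      rintro r s (rfl | rfl) <;> push_cast <;> field_simp
    simp only [add_zero, zero_add] at R
    rw [q a _ va, q b _ vb, q c _ vc, ← hXa, ← hXb, ← hXc] at R
    push_cast at R
    have nz : ∀ {r : ι} {s X : ℤ}, r ≠ o → (s = 1 ∨ s = -1) → X = x r * s →
        X ≠ 0 ∧ X ≠ 1 ∧ X ≠ -1 := by
      intro r s X hr hs hX
      have := hxo r hr
      rcases hs with rfl | rfl <;> omega
    obtain ⟨za, -, za'⟩ := nz ao va hXa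
    obtain ⟨zb, zb', -⟩ := nz bo vb hXb
    obtain ⟨zc, zc', -⟩ := nz co vc hXc
    have za0 : (Xa : ℚ) ≠ 0 := Int.cast_ne_zero.2 za
    have zb0 : (Xb : ℚ) ≠ 0 := Int.cast_ne_zero.2 zb
    have zc0 : (Xc : ℚ) ≠ 0 := Int.cast_ne_zero.2 zc
    have R' : (1 : ℚ) + 1 / Xa = 1 / Xb + 1 / Xc := by linarith
    field_simp at R'
    have hmul : (Xa + 1) * (Xb * Xc) = Xa * (Xb + Xc) := by
      have : ((Xa : ℚ) + 1) * (Xb * Xc) = Xa * (Xb + Xc) := by linarith
      exact_mod_cast this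
    have hp : Xb * Xc = Xa := by
      have : (Xa + 1) * (Xb * Xc - Xa) = 0 := by rw [mul_sub, hmul, hlin]; ring
      rcases mul_eq_zero.1 this with h | h <;> omega
    have : (Xb - 1) * (Xc - 1) = 0 := by linarith
    rcases mul_eq_zero.1 this with h | h <;> omega
  · -- they meet `T` in different pairs
    have hsub1 : supp d₀ ∩ supp d₁ ⊆ T := hA o1
    have hsub2 : supp d₀ ∩ supp d₂ ⊆ T := hA o2
    have hAc : ((supp d₀ ∩ supp d₁) ∩ (supp d₀ ∩ supp d₂)).card = 1 := by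
      have hu := card_union_add_card_inter (supp d₀ ∩ supp d₁) (supp d₀ ∩ supp d₂)
      have hle : (supp d₀ ∩ supp d₁ ∪ supp d₀ ∩ supp d₂).card ≤ 3 :=
        cT ▸ card_le_card (union_subset hsub1 hsub2)
      have hne : ((supp d₀ ∩ supp d₁) ∩ (supp d₀ ∩ supp d₂)).card ≠ 2 := fun h => hz (by
        have a1 := eq_of_subset_of_card_le (inter_subset_left (s₁ := supp d₀ ∩ supp d₁)
          (s₂ := supp d₀ ∩ supp d₂)) (by omega)
        have a2 := eq_of_subset_of_card_le (inter_subset_right (s₁ := supp d₀ ∩ supp d₁)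
          (s₂ := supp d₀ ∩ supp d₂)) (by omega)
        exact a1.symm.trans a2)
      have hle2 : ((supp d₀ ∩ supp d₁) ∩ (supp d₀ ∩ supp d₂)).card ≤ 2 :=
        hi01 ▸ card_le_card inter_subset_left
      omega
    obtain ⟨A, hAs⟩ := card_eq_one.1 hAc
    obtain ⟨mA1, mA2⟩ := mem_inter.1 (show A ∈ (supp d₀ ∩ supp d₁) ∩ (supp d₀ ∩ supp d₂) by
      rw [hAs]; simp)
    obtain ⟨B, hBs⟩ := card_eq_one.1 (show ((supp d₀ ∩ supp d₁).erase A).card = 1 by
      rw [card_erase_of_mem mA1, hi01])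
    obtain ⟨C, hCs⟩ := card_eq_one.1 (show ((supp d₀ ∩ supp d₂).erase A).card = 1 by
      rw [card_erase_of_mem mA2, hi02])
    have mA12 : A ∈ supp d₁ ∩ supp d₂ := mem_inter.2 ⟨(mem_inter.1 mA1).2, (mem_inter.1 mA2).2⟩
    obtain ⟨D, hDs⟩ := card_eq_one.1 (show ((supp d₁ ∩ supp d₂).erase A).card = 1 by
      rw [card_erase_of_mem mA12, hi12])
    obtain ⟨BA, mB⟩ := mem_erase.1 (show B ∈ (supp d₀ ∩ supp d₁).erase A by rw [hBs]; simp)
    obtain ⟨CA, mC⟩ := mem_erase.1 (show C ∈ (supp d₀ ∩ supp d₂).erase A by rw [hCs]; simp)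
    obtain ⟨DA, mD⟩ := mem_erase.1 (show D ∈ (supp d₁ ∩ supp d₂).erase A by rw [hDs]; simp)
    have key : ∀ r, r ∈ supp d₀ → r ∈ supp d₁ → r ∈ supp d₂ → r = A := by
      intro r a b c
      have : r ∈ (supp d₀ ∩ supp d₁) ∩ (supp d₀ ∩ supp d₂) :=
        mem_inter.2 ⟨mem_inter.2 ⟨a, b⟩, mem_inter.2 ⟨a, c⟩⟩
      rwa [hAs, mem_singleton] at this
    have hB2 : d₂ B = 0 := by
      by_contra h
      exact BA (key B (mem_inter.1 mB).1 (mem_inter.1 mB).2 (mem_supp.2 h))
    have hC1 : d₁ C = 0 := by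
      by_contra h
      exact CA (key C (mem_inter.1 mC).1 (mem_supp.2 h) (mem_inter.1 mC).2)
    have hD0 : d₀ D = 0 := by
      by_contra h
      exact DA (key D (mem_supp.2 h) (mem_inter.1 mD).1 (mem_inter.1 mD).2)
    have hBC : B ≠ C := fun h => mem_supp.1 (mem_inter.1 mC).2 (h ▸ hB2)
    have hT3 : T = {A, B, C} := (eq_of_subset_of_card_le (by
      intro r hr
      simp only [mem_insert, mem_singleton] at hr
      rcases hr with rfl | rfl | rfl
      · exact hsub1 mA1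
      · exact hsub1 mB
      · exact hsub2 mC) (by
        rw [cT, card_insert_of_notMem (by simp [BA.symm, CA.symm]), card_pair hBC])).symm
    have hBD : B ≠ D := fun h => mem_supp.1 (mem_inter.1 mD).2 (h ▸ hB2)
    obtain ⟨Ee, hEs⟩ := card_eq_one.1 (show (supp d₁ \ {A, B, D}).card = 1 by
      rw [card_sdiff_of_subset (by
        intro r hr
        simp only [mem_insert, mem_singleton] at hr
        rcases hr with rfl | rfl | rfl
        · exact (mem_inter.1 mA12).1
        · exact (mem_inter.1 mB).2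
        · exact (mem_inter.1 mD).1), c1,
        card_insert_of_notMem (by simp [BA.symm, DA.symm]), card_pair hBD])
    have hE : Ee ∈ supp d₁ \ {A, B, D} := by rw [hEs]; simp
    obtain ⟨hE1, hEn⟩ := mem_sdiff.1 hE
    simp only [mem_insert, mem_singleton, not_or] at hEn
    have hE0 : d₀ Ee = 0 := by
      by_contra h
      have : Ee ∈ (supp d₀ ∩ supp d₁).erase A :=
        mem_erase.2 ⟨hEn.1, mem_inter.2 ⟨mem_supp.2 h, hE1⟩⟩
      rw [hBs, mem_singleton] at this
      exact hEn.2.1 this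
    have hE2 : d₂ Ee = 0 := by
      by_contra h
      have : Ee ∈ (supp d₁ ∩ supp d₂).erase A :=
        mem_erase.2 ⟨hEn.1, mem_inter.2 ⟨hE1, mem_supp.2 h⟩⟩
      rw [hDs, mem_singleton] at this
      exact hEn.2.2 this
    have hS0 : supp d₀ = {o, A, B, C} := by rw [hT0, hT3]
    have hS1 : supp d₁ = {A, B, D, Ee} := by
      refine (eq_of_subset_of_card_le ?_ ?_).symm
      · intro r hr
        simp only [mem_insert, mem_singleton] at hr
        rcases hr with rfl | rfl | rfl | rfl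
        · exact (mem_inter.1 mA12).1
        · exact (mem_inter.1 mB).2
        · exact (mem_inter.1 mD).1
        · exact hE1
      · rw [c1, card_insert_of_notMem (by simp [BA.symm, DA.symm, Ne.symm hEn.1]),
          card_insert_of_notMem (by simp [hBD, Ne.symm hEn.2.1]),
          card_pair (Ne.symm hEn.2.2)]
    have E0 := sum_quad (R := ℤ) d₀ x hS0 c0
    have E1 := sum_quad (R := ℤ) d₁ x hS1 c1
    simp only [Int.cast_id, e0, e1, h0, ho, s01 A mA1, s01 B mB] at E0 E1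
    have R := hR
    rw [sum_quad (R := ℚ) d₀ _ hS0 c0, sum_quad (R := ℚ) d₁ _ hS1 c1, s01 A mA1, s02 A mA2,
      s01 B mB, hB2, h0, h1, h2, ho, hC1, s02 C mC, hD0, s12 D mD, hE0, hE2] at R
    have vC : d₀ C = 1 ∨ d₀ C = -1 := (v0 C).resolve_left (mem_supp.1 (mem_inter.1 mC).1)
    have vD : d₁ D = 1 ∨ d₁ D = -1 := (v1 D).resolve_left (mem_supp.1 (mem_inter.1 mD).1)
    have vE : d₁ Ee = 1 ∨ d₁ Ee = -1 := (v1 Ee).resolve_left (mem_supp.1 hE1)
    obtain ⟨XC, hXC⟩ : ∃ X, X = x C * d₀ C := ⟨_, rfl⟩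
    obtain ⟨XD, hXD⟩ : ∃ X, X = x D * d₁ D := ⟨_, rfl⟩
    obtain ⟨XE, hXE⟩ : ∃ X, X = x Ee * d₁ Ee := ⟨_, rfl⟩
    have hlin : XD + XE = 1 + XC := by linarith
    have Co : C ≠ o := nT C (hsub2 mC)
    have Do : D ≠ o := fun h => o1 (h ▸ (mem_inter.1 mD).1)
    have Eo : Ee ≠ o := fun h => o1 (h ▸ hE1)
    have q1 : ∀ (r : ι) (s : ℤ), (s = 1 ∨ s = -1) →
        ((s ^ 2 : ℤ) : ℚ) / (x r : ℚ) * (s : ℚ) = 1 / ((x r * s : ℤ) : ℚ) := by
      rintro r s (rfl | rfl) <;> push_cast <;> field_simp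
    have q2 : ∀ (r : ι) (s : ℤ), (s = 1 ∨ s = -1) →
        (((s + s) ^ 2 : ℤ) : ℚ) / (x r : ℚ) * (s : ℚ) = 4 / ((x r * s : ℤ) : ℚ) := by
      rintro r s (rfl | rfl) <;> push_cast <;> field_simp <;> ring
    simp only [add_zero, zero_add] at R
    rw [q2 C _ vC, q2 D _ vD, q1 Ee _ vE, ← hXC, ← hXD, ← hXE] at R
    push_cast at R
    have bound : ∀ (r : ι) (s X : ℤ), r ≠ o → (s = 1 ∨ s = -1) → X = x r * s →
        0 ≤ x r + 7 * (2 * s) → 8 ∣ x r + 7 * (2 * s) →
        (2 ≤ X ∨ X ≤ -14) ∧ X % 8 = 2 := by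
      intro r s X hr hs hX hp hd
      have := hxo r hr
      rcases hs with rfl | rfl <;> omega
    obtain ⟨bC, mC8⟩ := bound C _ XC Co vC hXC (by
      have := hpos C; rw [hC1, s02 C mC] at this; linarith) (by
      have := h8 C; rw [hC1, s02 C mC] at this; convert this using 1; ring)
    obtain ⟨bD, mD8⟩ := bound D _ XD Do vD hXD (by
      have := hpos D; rw [hD0, s12 D mD] at this; linarith) (by
      have := h8 D; rw [hD0, s12 D mD] at this; convert this using 1; ring)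
    have zE : XE ≠ 0 ∧ XE ≠ 1 := by
      have := hxo Ee Eo
      rcases vE with h | h <;> rw [h] at hXE <;> omega
    have zC0 : (XC : ℚ) ≠ 0 := Int.cast_ne_zero.2 (by omega)
    have zD0 : (XD : ℚ) ≠ 0 := Int.cast_ne_zero.2 (by omega)
    have zE0 : (XE : ℚ) ≠ 0 := Int.cast_ne_zero.2 zE.1
    have R' : (1 : ℚ) + 4 / XC = 4 / XD + 1 / XE := by linarith
    field_simp at R'
    have hmul : (XC + 4) * (XD * XE) = XC * (4 * XE + XD) := by
      have : ((XC : ℚ) + 4) * (XD * XE) = XC * (4 * XE + XD) := by linarith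
      exact_mod_cast this
    have hne : XC ≠ XD := fun h => zE.2 (by omega)
    have hp : XC * XD = 4 * XE := by
      have : (XC - XD) * (XC * XD - 4 * XE) = 0 := by
        have hCE : XE = 1 + XC - XD := by omega
        rw [hCE] at hmul ⊢
        linear_combination hmul
      exact sub_eq_zero.1 ((mul_eq_zero.1 this).resolve_left (sub_ne_zero.2 hne))
    have hprod : (XC + 4) * (XD - 4) = -12 := by
      have hCE : XE = 1 + XC - XD := by omega
      rw [hCE] at hp
      linear_combination hp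
    have hdiv : XC + 4 ∣ (12 : ℤ) := ⟨-(XD - 4), by linarith⟩
    have hle : (XC + 4).natAbs ≤ 12 := Nat.le_of_dvd (by norm_num) (by
      simpa using Int.natAbs_dvd_natAbs.2 hdiv)
    have hlo : -12 ≤ XC + 4 ∧ XC + 4 ≤ 12 := by omega
    have h6 : XC + 4 = -10 ∨ XC + 4 = 6 := by omega
    rcases h6 with h6 | h6
    · rw [h6] at hprod; omega
    · rw [h6] at hprod; omega

end CfsgLib.EightTwentyOne
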