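import Cfsg.Agent.Blocks.Section
import Cfsg.Agent.Blocks.PSolvablePrincipal
import Cfsg.Agent.Blocks.Congr
import Cfsg.Agent.Blocks.Counting
import Cfsg.Agent.BlocksB.FrobeniusSylow.IndexThree
import Cfsg.Agent.Char.Kernel
import Cfsg.Agent.EightTwentyOne.Combinatorics
import Mathlib.GroupTheory.SpecificGroups.Cyclic
import Mathlib.RingTheory.RootsOfUnity.Complex

/-!
# An involution whose centralizer modulo the odd core has order 24 with a centralizer of order 6

The three columns of the principal 2-block on the involution section cannot exist when all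
involutions are conjugate and only one character is linear.
-/

set_option autoImplicit false
set_option linter.unusedSectionVars false
set_option linter.style.haveILetI false

namespace CfsgLib.EightTwentyOne

open Cfsg Finset CfsgLib.Block CfsgLib.Block.Chr CfsgLib.Char
open scoped ComplexConjugate
open scoped Classical

universe u

variable {G : Type u} [Group G] [Fintype G]

/-- A character sum over a coset of a normal subgroup. -/
theorem sum_coset {C : Type u} [Group C] [Fintype C] (O : Subgroup C) [O.Normal]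
    (φ : IrrCharacter C) (y : C) :
    ∑ n ∈ univ.filter (· ∈ O), (φ : C → ℂ) (n * y) =
      if ∀ n ∈ O, (φ : C → ℂ) n = (φ : C → ℂ) 1 then (Nat.card O : ℂ) * (φ : C → ℂ) y else 0 := by
  split_ifs with h
  · rw [sum_congr rfl fun n hn =>
      IsCharacter.apply_mul_of_apply_eq (isCharacter_irr φ) (h n (mem_filter.1 hn).2) y,
      sum_const, nsmul_eq_mul, Nat.card_eq_fintype_card, Fintype.card_subtype]
  · let a : C → ℂ := fun g => if g ∈ O then 1 else 0
    have ha : IsClassFunction C a := fun g x => by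
      have hiff : x * g * x⁻¹ ∈ O ↔ g ∈ O :=
        ⟨fun h => by simpa [mul_assoc] using Subgroup.Normal.conj_mem ‹_› _ h x⁻¹,
          fun h => Subgroup.Normal.conj_mem ‹_› _ h x⟩
      by_cases hg : g ∈ O
      · simp only [a, if_pos hg, if_pos (hiff.2 hg)]
      · simp only [a, if_neg hg, if_neg (mt hiff.1 hg)]
    have h' := class_mul φ ha (fun k => if k = y then 1 else 0)
    simp only [a, mul_ite, mul_one, mul_zero, ite_mul, one_mul, zero_mul, sum_ite_eq', mem_univ,
      if_true] at h'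
    rw [← sum_filter, ← sum_filter, (sum_eq_zero_or_ker φ O).resolve_right h, zero_mul] at h'
    exact (mul_eq_zero.1 h').resolve_right (irr_one_ne_zero φ)

/-- Column orthogonality in the quotient by a normal subgroup, counted in the group. -/
theorem sum_col_quot {C : Type u} [Group C] [Fintype C] [Fintype (IrrCharacter C)]
    (O : Subgroup C) [O.Normal] (y y' : C) :
    (Nat.card O : ℂ) * ∑ φ ∈ univ.filter (fun φ : IrrCharacter C =>
        ∀ n ∈ O, (φ : C → ℂ) n = (φ : C → ℂ) 1), (φ : C → ℂ) y * conj ((φ : C → ℂ) y') =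
      (Nat.card {c : C // c * y' * c⁻¹ * y⁻¹ ∈ O} : ℂ) := by
  have h1 : ∑ n ∈ univ.filter (· ∈ O), ∑ φ : IrrCharacter C,
      (φ : C → ℂ) (n * y) * conj ((φ : C → ℂ) y') =
      (Nat.card O : ℂ) * ∑ φ ∈ univ.filter (fun φ : IrrCharacter C =>
        ∀ n ∈ O, (φ : C → ℂ) n = (φ : C → ℂ) 1), (φ : C → ℂ) y * conj ((φ : C → ℂ) y') := by
    rw [sum_comm, mul_sum, sum_filter (fun φ : IrrCharacter C => ∀ n ∈ O, (φ : C → ℂ) n = (φ : C → ℂ) 1)]
    refine sum_congr rfl fun φ _ => ?_
    rw [← sum_mul, sum_coset]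
    split_ifs <;> ring
  rw [← h1, Nat.card_eq_fintype_card, Fintype.card_subtype,
    card_eq_sum_card_fiberwise (t := univ.filter (· ∈ O)) (f := fun c : C => c * y' * c⁻¹ * y⁻¹)
      (fun c hc => by simpa using hc), Nat.cast_sum]
  refine sum_congr rfl fun n hn => ?_
  rw [column_orth]
  have hset : ((univ.filter fun c : C => c * y' * c⁻¹ * y⁻¹ ∈ O).filter
      fun c => c * y' * c⁻¹ * y⁻¹ = n) = univ.filter fun c : C => c * y' * c⁻¹ = n * y := by
    ext c
    simp only [mem_filter, mem_univ, true_and]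
    refine ⟨fun h => mul_inv_eq_iff_eq_mul.1 h.2, fun h => ⟨?_, mul_inv_eq_iff_eq_mul.2 h⟩⟩
    have : c * y' * c⁻¹ * y⁻¹ = n := mul_inv_eq_iff_eq_mul.2 h
    rw [this]
    exact (mem_filter.1 hn).2
  rw [hset]
  split_ifs with hc
  · obtain ⟨d, hd⟩ := isConj_iff.1 hc.symm
    rw [Nat.cast_inj, Nat.card_eq_fintype_card, Fintype.card_subtype]
    refine card_nbij' (fun e => e * d) (fun c => c * d⁻¹) (fun e he => ?_) (fun c hc => ?_)
      (fun e _ => by group) (fun c _ => by group)
    · simp only [coe_filter, mem_univ, true_and, Set.mem_ofPred_eq,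
        Subgroup.mem_centralizer_singleton_iff] at he ⊢
      calc e * d * y' * (e * d)⁻¹ = e * (d * y' * d⁻¹) * e⁻¹ := by group
        _ = n * y := by rw [hd, he, mul_inv_cancel_right]
    · simp only [coe_filter, mem_univ, true_and, Set.mem_ofPred_eq,
        Subgroup.mem_centralizer_singleton_iff] at hc ⊢
      calc c * d⁻¹ * (n * y) = c * d⁻¹ * (d * y' * d⁻¹) := by rw [hd]
        _ = (c * y' * c⁻¹) * (c * d⁻¹) := by group
        _ = n * y * (c * d⁻¹) := by rw [hc]
  · rw [filter_eq_empty_iff.2 fun c _ h => hc (IsConj.symm (isConj_iff.2 ⟨c, h⟩)), card_empty,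
      Nat.cast_zero]

/-- A sum over a period three. -/
theorem sum_periodic {F : ℕ → ℂ} (h : ∀ q, F (q + 3) = F q) (a : ℕ) :
    ∑ q ∈ range (3 * a), F q = (a : ℂ) * (F 0 + F 1 + F 2) := by
  induction a with
  | zero => simp
  | succ a ih =>
    have hp : ∀ i, F (3 * a + i) = F i := by
      intro i
      clear ih
      induction a with
      | zero => simp
      | succ b ihb => rw [show 3 * (b + 1) + i = 3 * b + i + 3 by ring, h, ihb]
    rw [Nat.mul_succ, sum_range_add, ih, sum_range_succ, sum_range_succ, sum_range_one, hp 0, hp 1,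
      hp 2]
    push_cast
    ring

/-- The sum over the powers of a cyclic group. -/
theorem sum_zpowers (u : G) (f : Subgroup.zpowers u → ℂ) :
    ∑ x : Subgroup.zpowers u, f x =
      ∑ m ∈ range (orderOf u), f ⟨u ^ m, Subgroup.npow_mem_zpowers u m⟩ := by
  rw [← Fin.sum_univ_eq_sum_range (fun m => f ⟨u ^ m, Subgroup.npow_mem_zpowers u m⟩)]
  exact (Fintype.sum_equiv (finEquivZPowers (isOfFinOrder_of_finite u)) _ _ fun _ => rfl).symm

/-- The odd-indexed twisted sum is twice the order times an integer. -/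
theorem exists_twisted_sum (χ : IrrCharacter G) {t z : G} (ht : orderOf t = 2)
    (hz : ¬ 2 ∣ orderOf z) (hc : Commute t z) {η : ℂ} (hη : η ^ orderOf z = 1) :
    ∃ m : ℤ, ∑ q ∈ range (orderOf z), (χ : G → ℂ) (t * z ^ (2 * q + 1)) * conj (η ^ (2 * q + 1)) =
      (orderOf z : ℂ) * (m : ℂ) := by
  have hk : orderOf (t * z) = 2 * orderOf z := by
    rw [hc.orderOf_mul_eq_mul_orderOf_of_coprime, ht]
    rw [ht]
    exact Nat.prime_two.coprime_iff_not_dvd.2 hz
  have hgen : ∀ x : Subgroup.zpowers (t * z),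
      x ∈ Subgroup.zpowers (⟨t * z, Subgroup.mem_zpowers _⟩ : Subgroup.zpowers (t * z)) := by
    rintro ⟨x, i, rfl⟩
    exact ⟨i, Subtype.ext (by simp)⟩
  have hmk : ∀ ε : ℂ, ε ^ (2 * orderOf z) = 1 → ∃ n : ℕ, ((2 * orderOf z : ℕ) : ℂ) * n =
      ∑ m ∈ range (2 * orderOf z), (χ : G → ℂ) ((t * z) ^ m) * conj (ε ^ m) := by
    intro ε hε
    let e : ℂˣ := Units.ofPowEqOne ε _ hε (by
      have := orderOf_pos z
      omega)
    have he : orderOf e ∣ orderOf (⟨t * z, Subgroup.mem_zpowers _⟩ : Subgroup.zpowers (t * z)) := by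
      rw [Subgroup.orderOf_mk, hk]
      refine orderOf_dvd_of_pow_eq_one (Units.ext ?_)
      simp [e, hε]
    obtain ⟨n, hn⟩ := CfsgLib.FrobeniusSylow.exists_restrict_mult (Subgroup.zpowers (t * z)) χ
      (monoidHomOfForallMemZpowers hgen he)
    refine ⟨n, ?_⟩
    rw [Nat.card_zpowers, hk, sum_zpowers (t * z), hk] at hn
    rw [hn]
    refine sum_congr rfl fun m _ => ?_
    have hm : (⟨(t * z) ^ m, Subgroup.npow_mem_zpowers _ m⟩ : Subgroup.zpowers (t * z)) =
        ⟨t * z, Subgroup.mem_zpowers _⟩ ^ m := Subtype.ext (by simp)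
    rw [hm, map_pow, monoidHomOfForallMemZpowers_apply_gen, Units.val_pow_eq_pow_val,
      SubgroupClass.coe_pow]
    simp [e]
  obtain ⟨n₁, hn₁⟩ := hmk η (by rw [mul_comm, pow_mul, hη, one_pow])
  obtain ⟨n₂, hn₂⟩ := hmk (-η) (by rw [mul_comm, pow_mul, neg_pow, hη, mul_one, ← pow_mul,
    mul_comm, pow_mul, neg_one_sq, one_pow])
  refine ⟨(n₁ : ℤ) - n₂, ?_⟩
  have hsplit : ∀ (f : ℕ → ℂ) (k : ℕ), ∑ m ∈ range (2 * k), f m =
      ∑ q ∈ range k, f (2 * q) + ∑ q ∈ range k, f (2 * q + 1) := by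
    intro f k
    induction k with
    | zero => simp
    | succ k ih =>
      rw [Nat.mul_succ, sum_range_succ, sum_range_succ, ih, sum_range_succ, sum_range_succ]
      ring
  have hodd : ∀ q : ℕ, (t * z) ^ (2 * q + 1) = t * z ^ (2 * q + 1) := by
    intro q
    rw [hc.mul_pow, pow_succ t, pow_mul, ← ht, pow_orderOf_eq_one, one_pow, one_mul]
  rw [hsplit] at hn₁ hn₂
  have hev : ∀ q : ℕ, (-η) ^ (2 * q) = η ^ (2 * q) := fun q => (even_two_mul q).neg_pow η
  have hod : ∀ q : ℕ, (-η) ^ (2 * q + 1) = -η ^ (2 * q + 1) := fun q =>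
    (odd_two_mul_add_one q).neg_pow η
  simp only [hodd, hev, hod, map_neg, mul_neg, sum_neg_distrib] at hn₁ hn₂
  push_cast at hn₁ hn₂ ⊢
  linear_combination (-(1 : ℂ) / 2) * hn₁ + (1 / 2 : ℂ) * hn₂

/-- The contradiction. -/
theorem false_of_section (S : Sylow 2 G) (hS8 : Nat.card S = 8) (hSexp : ∀ x : S, x * x = 1)
    (hone : ∀ i j : G, orderOf i = 2 → orderOf j = 2 → IsConj i j)
    (hlin : ∀ χ : IrrCharacter G, χ ≠ oneIrr G → 2 ≤ charDegree (χ : G → ℂ))
    {t : G} (ht : orderOf t = 2) [Group.IsSolvable (Subgroup.centralizer ({t} : Set G))]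
    (z : Subgroup.centralizer ({t} : Set G)) (hz : ¬ 2 ∣ orderOf z)
    (hz3 : z ^ 3 ∈ Cfsg.pPrimeCore 2 (Subgroup.centralizer ({t} : Set G)))
    (hcount : ∀ i < 3, ∀ j < 3,
      Nat.card {c : Subgroup.centralizer ({t} : Set G) //
          c * z ^ j * c⁻¹ * (z ^ i)⁻¹ ∈ Cfsg.pPrimeCore 2 (Subgroup.centralizer ({t} : Set G))} =
        Nat.card (Cfsg.pPrimeCore 2 (Subgroup.centralizer ({t} : Set G))) *
          (if i = j then (if i = 0 then 24 else 6) else 0)) :
    False := by
  haveI : Fact (Nat.Prime 2) := ⟨Nat.prime_two⟩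
  obtain ⟨M, hM⟩ := exists_isPModular (p := 2) Nat.prime_two
  haveI := isPrime_of_isPModular hM
  haveI : Fintype (Subgroup.centralizer ({t} : Set G)) := Fintype.ofFinite _
  letI := irrFintype (G := G)
  letI := irrFintype (G := Subgroup.centralizer ({t} : Set G))
  obtain ⟨O, hOdef⟩ : ∃ O, O = Cfsg.pPrimeCore 2 (Subgroup.centralizer ({t} : Set G)) := ⟨_, rfl⟩
  rw [← hOdef] at hz3 hcount
  haveI : O.Normal := hOdef ▸ CfsgLib.Solvable.pPrimeCore_normal 2
  have hO2 : ¬ 2 ∣ Nat.card O := by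
    rw [hOdef]
    exact Nat.prime_two.coprime_iff_not_dvd.1
      (CfsgLib.Solvable.coprime_card_pPrimeCore (G := Subgroup.centralizer ({t} : Set G)) 2).symm
  have hO0 : (Nat.card O : ℂ) ≠ 0 := Nat.cast_ne_zero.2 Nat.card_pos.ne'
  have ht' : orderOf t = 2 ^ 1 := by rw [ht, pow_one]
  have ht1 : t ≠ 1 := fun h => by rw [h, orderOf_one] at ht; omega
  let B := principalBlock M G
  have hb0 : ∀ φ : IrrCharacter (Subgroup.centralizer ({t} : Set G)),
      φ ∈ principalBlock M (Subgroup.centralizer ({t} : Set G)) ↔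
        ∀ k ∈ O, (φ : Subgroup.centralizer ({t} : Set G) → ℂ) k =
          (φ : Subgroup.centralizer ({t} : Set G) → ℂ) 1 := by
    rw [hOdef]
    exact (principalBlock_of_constrained hM selfCent_quotient_of_solvable).1
  -- regular elements
  let π := QuotientGroup.mk' O
  have hπz : π z ^ 3 = 1 := by rw [← map_pow]; exact (QuotientGroup.eq_one_iff _).2 hz3
  have hreg : ∀ n ∈ O, ∀ r : ℕ, ¬ 2 ∣ orderOf (n * z ^ r) := by
    intro n hn r h2
    have h3 : (n * z ^ r) ^ 3 ∈ O := by
      refine (QuotientGroup.eq_one_iff _).1 (?_ : π ((n * z ^ r) ^ 3) = 1)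
      rw [map_pow, map_mul, map_pow, show π n = 1 from (QuotientGroup.eq_one_iff _).2 hn, one_mul,
        ← pow_mul, mul_comm, pow_mul, hπz, one_pow]
    have hp : (n * z ^ r) ^ (3 * Nat.card O) = 1 := by
      rw [pow_mul]
      exact congrArg Subtype.val (pow_card_eq_one' (x := (⟨_, h3⟩ : O)))
    rcases Nat.prime_two.dvd_mul.1 (h2.trans (orderOf_dvd_of_pow_eq_one hp)) with h | h
    · omega
    · exact hO2 h
  have hregz : ∀ r : ℕ, ¬ 2 ∣ orderOf (z ^ r) := fun r => by
    simpa using hreg 1 (one_mem O) r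
  let f : ℕ → IrrCharacter G → ℂ := fun r χ =>
    (χ : G → ℂ) (t * ((z ^ r : Subgroup.centralizer ({t} : Set G)) : G))
  -- periodicity on the principal block
  have hper : ∀ χ ∈ B, ∀ n ∈ O, ∀ r : ℕ,
      (χ : G → ℂ) (t * ((n * z ^ r : Subgroup.centralizer ({t} : Set G)) : G)) = f r χ := by
    intro χ hχ n hn r
    simp only [f]
    rw [principal_section hM ht' hχ _ (hreg n hn r), principal_section hM ht' hχ _ (hregz r),
      blockPart_eq_sum_inner, blockPart_eq_sum_inner]
    refine sum_congr rfl fun φ hφ => ?_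
    rw [IsCharacter.apply_mul_of_apply_eq (isCharacter_irr φ) ((hb0 φ).1 (mem_filter.1 hφ).2 n hn)]
  have hmod : ∀ χ ∈ B, ∀ r : ℕ, f (r + 3) χ = f r χ := fun χ hχ r => by
    rw [← hper χ hχ _ hz3 r, ← pow_add, add_comm 3 r]
  -- the Gram matrix
  have hgram : ∀ i < 3, ∀ j < 3, ∑ χ ∈ univ.filter (· ∈ B), f i χ * conj (f j χ) =
      if i = j then (if i = 0 then 24 else 6) else 0 := by
    intro i hi j hj
    simp only [f]
    rw [principal_section_kernel (M := M) hM ht' _ _ (hregz i) (hregz j)]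
    refine mul_left_cancel₀ hO0 ?_
    rw [show univ.filter (· ∈ principalBlock M (Subgroup.centralizer ({t} : Set G))) =
        univ.filter (fun φ : IrrCharacter (Subgroup.centralizer ({t} : Set G)) =>
          ∀ k ∈ O, (φ : Subgroup.centralizer ({t} : Set G) → ℂ) k =
            (φ : Subgroup.centralizer ({t} : Set G) → ℂ) 1) from filter_congr fun φ _ => hb0 φ,
      sum_col_quot O, hcount i hi j hj]
    split_ifs <;> push_cast <;> ring
  -- the roots of unity and the integral columns
  obtain ⟨w, hw3, hw0, hwc⟩ : ∃ w : ℂ, w ^ 3 = 1 ∧ 1 + w + w ^ 2 = 0 ∧ conj w = w ^ 2 := by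
    have h := Complex.isPrimitiveRoot_exp 3 (by norm_num)
    refine ⟨_, h.pow_eq_one, ?_, ?_⟩
    · have := h.geom_sum_eq_zero (by norm_num)
      simpa [sum_range_succ] using this
    · rw [← Complex.inv_eq_conj (h.norm'_eq_one (by norm_num))]
      refine inv_eq_of_mul_eq_one_right ?_
      rw [← pow_succ']
      exact h.pow_eq_one
  have hz1 : z ∉ O := by
    intro h
    have h0 := hcount 1 (by omega) 0 (by omega)
    simp only [Nat.one_ne_zero, if_false, mul_zero, Nat.card_eq_zero] at h0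
    rcases h0 with h0 | h0
    · exact h0.false ⟨1, by simpa using h⟩
    · exact h0.not_finite inferInstance
  have h3k : 3 ∣ orderOf z := by
    by_contra h3
    refine hz1 ?_
    obtain ⟨b, hb⟩ := exists_pow_eq_self_of_coprime (x := z)
      (Nat.prime_three.coprime_iff_not_dvd.2 h3)
    rw [← hb]
    exact pow_mem hz3 b
  obtain ⟨a, ha⟩ := h3k
  have ha0 : (a : ℂ) ≠ 0 := Nat.cast_ne_zero.2 fun h => by
    have := orderOf_pos z
    rw [h] at ha
    omega
  have htz : Commute t (z : G) := (Subgroup.mem_centralizer_singleton_iff.1 z.2).symm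
  have hint : ∀ χ ∈ B, ∀ η : ℂ, η ^ 3 = 1 →
      ∃ m : ℤ, f 0 χ + conj η * f 1 χ + conj η ^ 2 * f 2 χ = 3 * (m : ℂ) := by
    intro χ hχ η hη
    obtain ⟨m, hm⟩ := exists_twisted_sum χ (z := (z : G)) ht (by rwa [Subgroup.orderOf_coe]) htz
      (η := η) (by rw [Subgroup.orderOf_coe, ha, pow_mul, hη, one_pow])
    refine ⟨m, ?_⟩
    have hη' : conj η ^ 3 = 1 := by rw [← map_pow, hη, map_one]
    rw [Subgroup.orderOf_coe, ha] at hm
    simp only [map_pow, ← Subgroup.coe_pow] at hm
    rw [sum_periodic (F := fun q => (χ : G → ℂ) (t * ((z ^ (2 * q + 1) :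
        Subgroup.centralizer ({t} : Set G)) : G)) * conj η ^ (2 * q + 1)) (fun q => by
      have h1 := hmod χ hχ (2 * q + 4)
      have h2 := hmod χ hχ (2 * q + 1)
      simp only [f] at h1 h2
      rw [show 2 * (q + 3) + 1 = 2 * q + 4 + 3 by ring, h1,
        show 2 * q + 4 + 3 = 2 * q + 1 + 3 * 2 by ring, pow_add (conj η), pow_mul (conj η), hη',
        show 2 * q + 4 = 2 * q + 1 + 3 by ring, h2]
      ring) a] at hm
    have e3 := hmod χ hχ 0
    have e5 := hmod χ hχ 2
    simp only [f] at e3 e5 ⊢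
    simp only [show 2 * 0 + 1 = 1 by rfl, show 2 * 1 + 1 = 0 + 3 by rfl,
      show 2 * 2 + 1 = 2 + 3 by rfl, e3, e5, pow_add (conj η), hη', pow_zero, pow_one, mul_one] at hm
    simp only [pow_zero, pow_one, OneMemClass.coe_one, mul_one] at hm ⊢
    refine mul_left_cancel₀ ha0 ?_
    push_cast at hm
    linear_combination hm
  have hw' : ∀ r : ℕ, (w ^ r) ^ 3 = 1 := fun r => by rw [← pow_mul, mul_comm, pow_mul, hw3, one_pow]
  let ι := {χ : IrrCharacter G // χ ∈ B}
  choose d₀ hd₀ using fun r : ι => hint r r.2 1 (one_pow 3)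
  choose d₁ hd₁ using fun r : ι => hint r r.2 w hw3
  choose d₂ hd₂ using fun r : ι => hint r r.2 (w ^ 2) (hw' 2)
  simp only [map_one, one_pow, one_mul] at hd₀
  simp only [hwc] at hd₁
  simp only [map_pow, hwc] at hd₂
  have hw4 : (w ^ 2) ^ 2 = w := by linear_combination w * hw3
  simp only [hw4] at hd₁ hd₂
  have hsub : ∀ F : IrrCharacter G → ℂ, ∑ χ ∈ univ.filter (· ∈ B), F χ = ∑ r : ι, F r := fun F =>
    sum_subtype (univ.filter (· ∈ B)) (fun χ => by simp) F
  -- the inner products
  have hself : ∀ (r : ι) (d : ℤ) (u v : ℂ), f 0 r + u * f 1 r + v * f 2 r = 3 * (d : ℂ) →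
      conj (f 0 r) + conj u * conj (f 1 r) + conj v * conj (f 2 r) = 3 * (d : ℂ) := fun r d u v h => by
    have := congrArg conj h
    simpa only [map_add, map_mul, map_ofNat, map_intCast] using this
  have hpair : ∀ (d e : ι → ℤ) (u v u' v' : ℂ),
      (∀ r : ι, f 0 r + u * f 1 r + v * f 2 r = 3 * (d r : ℂ)) →
      (∀ r : ι, f 0 r + u' * f 1 r + v' * f 2 r = 3 * (e r : ℂ)) →
      9 * ((∑ r, d r * e r : ℤ) : ℂ) = 24 + 6 * (u * conj u' + v * conj v') := by
    intro d e u v u' v' hd he
    have key : ∀ r : ι, 9 * ((d r : ℂ) * (e r : ℂ)) =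
        (f 0 r * conj (f 0 r)) + (conj u' * (f 0 r * conj (f 1 r))) +
        (conj v' * (f 0 r * conj (f 2 r))) + (u * (f 1 r * conj (f 0 r))) +
        (u * conj u' * (f 1 r * conj (f 1 r))) + (u * conj v' * (f 1 r * conj (f 2 r))) +
        (v * (f 2 r * conj (f 0 r))) + (v * conj u' * (f 2 r * conj (f 1 r))) +
        (v * conj v' * (f 2 r * conj (f 2 r))) := fun r => by
      have h1 := hd r
      have h2 := hself r _ _ _ (he r)
      linear_combination -(3 * (e r : ℂ)) * h1 - (f 0 r + u * f 1 r + v * f 2 r) * h2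
    push_cast
    rw [mul_sum, sum_congr rfl fun r _ => key r]
    simp only [sum_add_distrib, ← mul_sum]
    have g : ∀ i < 3, ∀ j < 3, ∑ r : ι, f i r * conj (f j r) =
        if i = j then (if i = 0 then 24 else 6) else 0 := fun i hi j hj => by
      rw [← hsub (fun χ => f i χ * conj (f j χ))]
      exact hgram i hi j hj
    rw [g 0 (by omega) 0 (by omega), g 0 (by omega) 1 (by omega), g 0 (by omega) 2 (by omega),
      g 1 (by omega) 0 (by omega), g 1 (by omega) 1 (by omega), g 1 (by omega) 2 (by omega),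
      g 2 (by omega) 0 (by omega), g 2 (by omega) 1 (by omega), g 2 (by omega) 2 (by omega)]
    norm_num
    ring
  have hd₀' : ∀ r : ι, f 0 r + 1 * f 1 r + 1 * f 2 r = 3 * (d₀ r : ℂ) := fun r => by
    rw [one_mul, one_mul]; exact hd₀ r
  have hwc2 : conj (w ^ 2) = w := by rw [map_pow, hwc, hw4]
  have n0 : ∑ r, d₀ r * d₀ r = 4 := by
    have h := hpair d₀ d₀ 1 1 1 1 hd₀' hd₀'
    rw [map_one] at h
    refine Int.cast_injective (α := ℂ) ?_
    push_cast at h ⊢
    linear_combination h / 9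
  have n1 : ∑ r, d₁ r * d₁ r = 4 := by
    have h := hpair d₁ d₁ (w ^ 2) w (w ^ 2) w hd₁ hd₁
    rw [hwc, hwc2] at h
    refine Int.cast_injective (α := ℂ) ?_
    push_cast at h ⊢
    linear_combination h / 9 + (4 / 3) * hw3
  have n2 : ∑ r, d₂ r * d₂ r = 4 := by
    have h := hpair d₂ d₂ w (w ^ 2) w (w ^ 2) hd₂ hd₂
    rw [hwc, hwc2] at h
    refine Int.cast_injective (α := ℂ) ?_
    push_cast at h ⊢
    linear_combination h / 9 + (4 / 3) * hw3
  have i01 : ∑ r, d₀ r * d₁ r = 2 := by
    have h := hpair d₀ d₁ 1 1 (w ^ 2) w hd₀' hd₁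
    rw [hwc, hwc2] at h
    refine Int.cast_injective (α := ℂ) ?_
    push_cast at h ⊢
    linear_combination h / 9 + (2 / 3) * hw0
  have i02 : ∑ r, d₀ r * d₂ r = 2 := by
    have h := hpair d₀ d₂ 1 1 w (w ^ 2) hd₀' hd₂
    rw [hwc, hwc2] at h
    refine Int.cast_injective (α := ℂ) ?_
    push_cast at h ⊢
    linear_combination h / 9 + (2 / 3) * hw0
  have i12 : ∑ r, d₁ r * d₂ r = 2 := by
    have h := hpair d₁ d₂ (w ^ 2) w w (w ^ 2) hd₁ hd₂
    rw [hwc, hwc2] at h
    refine Int.cast_injective (α := ℂ) ?_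
    push_cast at h ⊢
    linear_combination h / 9 + (2 / 3) * hw0 + (2 / 3) * w * hw3
  -- degrees
  have hval : ∀ r : ι, ((r : IrrCharacter G) : G → ℂ) 1 = (charDegree ((r : IrrCharacter G) : G → ℂ) : ℂ) :=
    fun r => (irr_one _).1
  have horth : ∀ i : ℕ, ∑ r : ι, (charDegree ((r : IrrCharacter G) : G → ℂ) : ℂ) * f i r = 0 := by
    intro i
    have h := block_orth hM (isIntClass_blockCoeff (M := M) (G := G) (B := B) isPBlock_principalBlock)
      (g := 1) (h := t * ((z ^ i : Subgroup.centralizer ({t} : Set G)) : G)) (x := 1) (y := t)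
      ⟨1, one_mul 1, Commute.one_left 1, ⟨0, by simp⟩, by simp⟩
      (isPPart_mul Nat.prime_two ht' _ (hregz i)) (fun hc => ht1 (isConj_one_right.1 hc))
    rw [hsub] at h
    have h' := congrArg conj h
    simp only [map_sum, map_mul, Complex.conj_conj, map_zero] at h'
    rw [← h']
    exact sum_congr rfl fun r _ => by rw [hval, map_natCast]
  let x : ι → ℤ := fun r => (charDegree ((r : IrrCharacter G) : G → ℂ) : ℤ)
  have hdeg : ∀ (d : ι → ℤ) (u v : ℂ),
      (∀ r : ι, f 0 r + u * f 1 r + v * f 2 r = 3 * (d r : ℂ)) → ∑ r, x r * d r = 0 := by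
    intro d u v hd
    refine Int.cast_injective (α := ℂ) ?_
    refine mul_left_cancel₀ (show (3 : ℂ) ≠ 0 by norm_num) ?_
    push_cast
    rw [mul_zero, mul_sum, sum_congr rfl fun r _ => show (3 : ℂ) * ((x r : ℂ) * (d r : ℂ)) =
      (x r : ℂ) * f 0 r + u * ((x r : ℂ) * f 1 r) + v * ((x r : ℂ) * f 2 r) by
        linear_combination -(x r : ℂ) * hd r]
    simp only [sum_add_distrib, ← mul_sum]
    simp only [x, Int.cast_natCast]
    rw [horth 0, horth 1, horth 2]
    ring
  -- the value at the involution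
  have hval0 : ∀ r : ι, ((r : IrrCharacter G) : G → ℂ) t = ((d₀ r + d₁ r + d₂ r : ℤ) : ℂ) := by
    intro r
    have e : f 0 r = ((r : IrrCharacter G) : G → ℂ) t := by simp [f]
    rw [← e]
    push_cast
    have h1 := hd₀' r
    have h2 := hd₁ r
    have h3 := hd₂ r
    linear_combination (1 / 3 : ℂ) * h1 + (1 / 3 : ℂ) * h2 + (1 / 3 : ℂ) * h3 -
      (1 / 3 : ℂ) * (f 1 r + f 2 r) * hw0
  have hfull : ∀ r : ι, 0 ≤ x r + 7 * (d₀ r + d₁ r + d₂ r) ∧
      8 ∣ x r + 7 * (d₀ r + d₁ r + d₂ r) := by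
    intro r
    haveI : Fintype (S : Subgroup G) := Fintype.ofFinite _
    obtain ⟨n, hn⟩ := IsCharacter.exists_classInner_eq_natCast'
      (IsCharacter.restrict (isCharacter_irr (r : IrrCharacter G)) (S : Subgroup G))
      (CfsgLib.Char.isCharacter_one (G := (S : Subgroup G)))
    have hs : ∑ s : (S : Subgroup G), ((r : IrrCharacter G) : G → ℂ) s =
        ((x r + 7 * (d₀ r + d₁ r + d₂ r) : ℤ) : ℂ) := by
      rw [← add_sum_erase univ (fun s : (S : Subgroup G) => ((r : IrrCharacter G) : G → ℂ) s)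
        (mem_univ 1), Subgroup.coe_one, hval, Int.cast_add, Int.cast_mul, ← hval0]
      simp only [x, Int.cast_natCast]
      congr 1
      rw [sum_congr rfl fun (s : (S : Subgroup G)) hs => IsClassFunction.apply_eq_of_isConj
        (isClassFunction_irr (r : IrrCharacter G)) (hone s t (orderOf_eq_prime
          (by rw [sq]; exact congrArg Subtype.val (hSexp s))
          fun h => (mem_erase.1 hs).1 (Subtype.ext h)) ht),
        sum_const, card_erase_of_mem (mem_univ _), card_univ, ← Nat.card_eq_fintype_card,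
        show Nat.card (S : Subgroup G) = 8 from hS8, nsmul_eq_mul]
      norm_num
    rw [classInner, show Nat.card (S : Subgroup G) = 8 from hS8] at hn
    simp only [map_one, mul_one] at hn
    rw [hs] at hn
    have e : x r + 7 * (d₀ r + d₁ r + d₂ r) = 8 * (n : ℤ) := by
      refine Int.cast_injective (α := ℂ) ?_
      push_cast at hn ⊢
      linear_combination 8 * hn
    rw [e]
    exact ⟨by positivity, dvd_mul_right _ _⟩
  -- the structure constant
  have hkey : ∀ i < 3, i ≠ 0 → ∑ r : ι, ((r : IrrCharacter G) : G → ℂ) t ^ 2 /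
      ((r : IrrCharacter G) : G → ℂ) 1 * f i r = 0 := by
    intro i hi hi0
    let T : IrrCharacter G → ℂ := fun χ => ∑ n : O,
      (χ : G → ℂ) (t * (((n : Subgroup.centralizer ({t} : Set G)) * z ^ i :
        Subgroup.centralizer ({t} : Set G)) : G))
    have hTB : ∀ χ ∈ B, T χ = (Nat.card O : ℂ) * f i χ := fun χ hχ => by
      simp only [T]
      rw [sum_congr rfl fun (n : O) _ => hper χ hχ n n.2 i, sum_const, card_univ, nsmul_eq_mul,
        Nat.card_eq_fintype_card]
    have hT0 : ∀ χ : IrrCharacter G, χ ∉ B → T χ = 0 := by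
      have hexp : ∀ s : Finset (IrrCharacter G), ∑ χ ∈ s, T χ * conj (T χ) =
          ∑ n : O, ∑ m : O, ∑ χ ∈ s,
            (χ : G → ℂ) (t * (((n : Subgroup.centralizer ({t} : Set G)) * z ^ i :
              Subgroup.centralizer ({t} : Set G)) : G)) *
            conj ((χ : G → ℂ) (t * (((m : Subgroup.centralizer ({t} : Set G)) * z ^ i :
              Subgroup.centralizer ({t} : Set G)) : G))) := by
        intro s
        simp only [T, map_sum]
        rw [sum_congr rfl fun χ _ => sum_mul_sum _ _ _ _, sum_comm]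
        exact sum_congr rfl fun n _ => sum_comm
      have hloc : ∀ φ : IrrCharacter (Subgroup.centralizer ({t} : Set G)),
          φ ∉ principalBlock M (Subgroup.centralizer ({t} : Set G)) →
          ∑ n : O, (φ : Subgroup.centralizer ({t} : Set G) → ℂ)
            ((n : Subgroup.centralizer ({t} : Set G)) * z ^ i) = 0 := by
        intro φ hφ
        have h := sum_coset O φ (z ^ i)
        rw [if_neg (mt (hb0 φ).2 hφ)] at h
        rw [← h]
        exact (sum_subtype (univ.filter (· ∈ O)) (fun _ => by simp)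
          (fun n => (φ : Subgroup.centralizer ({t} : Set G) → ℂ) (n * z ^ i))).symm
      have heq : ∑ χ : IrrCharacter G, T χ * conj (T χ) =
          ∑ χ ∈ univ.filter (· ∈ B), T χ * conj (T χ) := by
        rw [hexp, hexp]
        rw [sum_congr rfl fun (n : O) _ => sum_congr rfl fun (m : O) _ =>
            sum_section Nat.prime_two ht' _ _ (hreg n n.2 i) (hreg m m.2 i),
          sum_congr rfl fun (n : O) _ => sum_congr rfl fun (m : O) _ =>
            principal_section_kernel (M := M) hM ht' _ _ (hreg n n.2 i) (hreg m m.2 i)]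
        rw [sum_congr rfl fun (n : O) _ => sum_comm, sum_comm]
        conv_rhs => rw [sum_congr rfl fun (n : O) _ => sum_comm, sum_comm]
        refine (sum_subset (subset_univ _) fun φ _ hφ => ?_).symm
        simp only [← mul_sum, ← map_sum]
        rw [hloc φ (fun h => hφ (mem_filter.2 ⟨mem_univ _, h⟩))]
        simp
      intro χ hχ
      have hsplit := sum_filter_add_sum_filter_not univ (· ∈ B) (fun ψ => T ψ * conj (T ψ))
      rw [heq, add_eq_left] at hsplit
      have hre : ∑ ψ ∈ univ.filter (fun ψ => ¬ ψ ∈ B), Complex.normSq (T ψ) = 0 := by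
        refine Complex.ofReal_injective ?_
        push_cast
        simpa [Complex.mul_conj] using hsplit
      exact Complex.normSq_eq_zero.1 ((sum_eq_zero_iff_of_nonneg fun ψ _ => Complex.normSq_nonneg _).1
        hre χ (mem_filter.2 ⟨mem_univ _, hχ⟩))
    -- no two involutions have product in the section
    let a : G → ℂ := fun g => if orderOf g = 2 then 1 else 0
    let n₂ : ℕ := (univ.filter fun g : G => orderOf g = 2).card
    let m : G → ℂ := fun g => ∑ u : G, a u * a (u⁻¹ * g)
    have hca : IsClassFunction G a := fun g x => by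
      simp only [a, show orderOf (x * g * x⁻¹) = orderOf g from
        orderOf_injective (MulAut.conj x).toMonoidHom (MulAut.conj x).injective g]
    have hm : IsClassFunction G m := isClassFunction_conv hca hca
    have hm0 : ∀ n : O, m (t * (((n : Subgroup.centralizer ({t} : Set G)) * z ^ i :
        Subgroup.centralizer ({t} : Set G)) : G)) = 0 := by
      intro n
      refine sum_eq_zero fun u _ => ?_
      by_contra hne
      set y := (n : Subgroup.centralizer ({t} : Set G)) * z ^ i with hy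
      simp only [a, mul_ite, mul_one, mul_zero, ite_eq_right_iff, one_ne_zero, imp_false,
        not_forall, not_not] at hne
      obtain ⟨hw, hu⟩ := hne
      have hu' : u * u = 1 := by rw [← pow_two, ← hu, pow_orderOf_eq_one]
      have hw' : (u⁻¹ * (t * (y : G))) * (u⁻¹ * (t * (y : G))) = 1 := by
        rw [← pow_two, ← hw, pow_orderOf_eq_one]
      have hyc : Commute t (y : G) := (Subgroup.mem_centralizer_singleton_iff.1 y.2).symm
      have htinv : t⁻¹ = t := inv_eq_of_mul_eq_one_right (by rw [← sq, ← ht, pow_orderOf_eq_one])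
      have hinv : u * (t * (y : G)) * u⁻¹ = t * ((y⁻¹ : Subgroup.centralizer ({t} : Set G)) : G) := by
        have e : u * (t * (y : G)) * u⁻¹ = (t * (y : G))⁻¹ := by
          rw [eq_inv_iff_mul_eq_one]
          calc u * (t * (y : G)) * u⁻¹ * (t * (y : G)) =
              u * u * ((u⁻¹ * (t * (y : G))) * (u⁻¹ * (t * (y : G)))) := by group
            _ = 1 := by rw [hu', hw', mul_one]
        rw [e, mul_inv_rev, htinv, Subgroup.coe_inv]
        exact (hyc.inv_right).eq.symm
      obtain ⟨huC, huy⟩ := fix_of_conj_section Nat.prime_two ht' (hreg n n.2 i)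
        (by rw [orderOf_inv]; exact hreg n n.2 i) hinv
      have huy' : (⟨u, huC⟩ : Subgroup.centralizer ({t} : Set G)) * y * ⟨u, huC⟩⁻¹ = y⁻¹ :=
        Subtype.ext huy
      have h0 := hcount (3 - i) (by omega) i hi
      rw [if_neg (by omega), mul_zero, Nat.card_eq_zero] at h0
      rcases h0 with h0 | h0
      · refine h0.false ⟨⟨u, huC⟩, (QuotientGroup.eq_one_iff _).1 (?_ : π _ = 1)⟩
        have hπy : π y = π z ^ i := by
          rw [hy, map_mul, map_pow, show π (n : Subgroup.centralizer ({t} : Set G)) = 1 from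
            (QuotientGroup.eq_one_iff _).2 n.2, one_mul]
        have h1 := congrArg π huy'
        rw [map_inv, map_mul, map_mul, map_inv, hπy] at h1
        rw [map_mul, map_mul, map_mul, map_inv, map_inv, map_pow, map_pow, h1, ← mul_inv_rev,
          ← pow_add, show 3 - i + i = 3 by omega, hπz, inv_one]
      · exact h0.not_finite inferInstance
    have hsum_a : ∀ χ : IrrCharacter G,
        ∑ g : G, a g * (χ : G → ℂ) g = (n₂ : ℂ) * (χ : G → ℂ) t := by
      intro χ
      simp only [a, ite_mul, one_mul, zero_mul]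
      rw [← sum_filter, sum_congr rfl fun g hg => (IsClassFunction.apply_eq_of_isConj
        (isClassFunction_irr χ) (hone g t (mem_filter.1 hg).2 ht)), sum_const, nsmul_eq_mul]
    have hinner : ∀ r : ι, classInner m ((r : IrrCharacter G) : G → ℂ) = (Nat.card G : ℂ)⁻¹ *
        ((n₂ : ℂ) ^ 2 * ((r : IrrCharacter G) : G → ℂ) t ^ 2 / ((r : IrrCharacter G) : G → ℂ) 1) := by
      intro r
      have h1 := class_mul (r : IrrCharacter G) hca a
      rw [hsum_a] at h1
      have hs : ∑ g : G, m g * ((r : IrrCharacter G) : G → ℂ) g =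
          ∑ g : G, ∑ k : G, a g * a k * ((r : IrrCharacter G) : G → ℂ) (g * k) := by
        simp only [m, sum_mul]
        rw [sum_comm]
        refine sum_congr rfl fun u _ => Fintype.sum_equiv (Equiv.mulLeft u⁻¹) _ _ fun g => ?_
        simp [mul_assoc]
      have hmreal : ∀ g, conj (m g) = m g := fun g => by
        simp only [m, map_sum, map_mul]
        exact sum_congr rfl fun u _ => by simp [a, apply_ite conj]
      have hin : classInner m ((r : IrrCharacter G) : G → ℂ) =
          (Nat.card G : ℂ)⁻¹ * conj (∑ g : G, m g * ((r : IrrCharacter G) : G → ℂ) g) := by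
        rw [classInner, map_sum]
        congr 1
        exact sum_congr rfl fun g _ => by rw [map_mul, hmreal]
      rw [hin, hs, eq_div_iff (irr_one_ne_zero _) |>.2 h1, hval0, hval]
      simp only [map_div₀, map_mul, map_natCast, map_intCast]
      ring
    have h0 : ∑ χ : IrrCharacter G, classInner m (χ : G → ℂ) * T χ = 0 := by
      simp only [T, mul_sum]
      rw [sum_comm]
      refine sum_eq_zero fun n _ => ?_
      rw [← classFun_expand hm]
      exact hm0 n
    rw [← sum_filter_add_sum_filter_not univ (· ∈ B),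
      sum_eq_zero (s := univ.filter (fun χ => ¬ χ ∈ B))
        (fun χ hχ => by rw [hT0 χ (mem_filter.1 hχ).2, mul_zero]), add_zero, hsub] at h0
    have hn0 : (n₂ : ℂ) ≠ 0 := Nat.cast_ne_zero.2
      (card_pos.2 ⟨t, mem_filter.2 ⟨mem_univ _, ht⟩⟩).ne'
    refine mul_left_cancel₀ (mul_ne_zero (mul_ne_zero (inv_ne_zero (Nat.cast_ne_zero.2
      (Nat.card_pos (α := G)).ne' : (Nat.card G : ℂ) ≠ 0)) (pow_ne_zero 2 hn0)) hO0) ?_
    rw [mul_zero, mul_sum, ← h0]
    refine sum_congr rfl fun r _ => ?_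
    rw [hinner r, hTB r r.2]
    ring
  -- assemble
  let o : ι := ⟨oneIrr G, oneIrr_mem_principalBlock⟩
  have hfo : ∀ i, f i o = 1 := fun i => rfl
  have hdo : d₀ o = 1 ∧ d₁ o = 0 ∧ d₂ o = 0 := by
    refine ⟨?_, ?_, ?_⟩ <;> refine Int.cast_injective (α := ℂ) ?_
    · have := hd₀ o
      simp only [hfo] at this
      push_cast
      linear_combination -this / 3
    · have := hd₁ o
      simp only [hfo] at this
      push_cast
      linear_combination (-this + hw0) / 3
    · have := hd₂ o
      simp only [hfo] at this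
      push_cast
      linear_combination (-this + hw0) / 3
  have hxo : ∀ r : ι, r ≠ o → 2 ≤ x r := fun r hr => by
    simp only [x]
    exact_mod_cast hlin r fun h => hr (Subtype.ext h)
  have hR : ∑ r, (((d₀ r + d₁ r + d₂ r) ^ 2 : ℤ) : ℚ) / (x r : ℚ) * (d₀ r : ℚ) =
      ∑ r, (((d₀ r + d₁ r + d₂ r) ^ 2 : ℤ) : ℚ) / (x r : ℚ) * (d₁ r : ℚ) := by
    refine Rat.cast_injective (α := ℂ) ?_
    push_cast
    rw [← sub_eq_zero, ← sum_sub_distrib]
    have e : ∀ r : ι, (((d₀ r : ℂ) + d₁ r + d₂ r) ^ 2 / (x r : ℂ) * (d₀ r : ℂ) -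
        ((d₀ r : ℂ) + d₁ r + d₂ r) ^ 2 / (x r : ℂ) * (d₁ r : ℂ)) =
        (1 - w ^ 2) / 3 * (((r : IrrCharacter G) : G → ℂ) t ^ 2 /
          ((r : IrrCharacter G) : G → ℂ) 1 * f 1 r) +
        (1 - w) / 3 * (((r : IrrCharacter G) : G → ℂ) t ^ 2 /
          ((r : IrrCharacter G) : G → ℂ) 1 * f 2 r) := by
      intro r
      rw [hval0, hval]
      push_cast
      simp only [x, Int.cast_natCast]
      have h1 := hd₀' r
      have h2 := hd₁ r
      linear_combination ((d₀ r : ℂ) + d₁ r + d₂ r) ^ 2 /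
        (charDegree ((r : IrrCharacter G) : G → ℂ) : ℂ) / 3 * (h2 - h1)
    rw [sum_congr rfl fun r _ => e r, sum_add_distrib, ← mul_sum, ← mul_sum,
      hkey 1 (by omega) (by omega), hkey 2 (by omega) (by omega), mul_zero, mul_zero, add_zero]
  refine false_of_columns o x d₀ d₁ d₂ ?_ hxo hdo.1 hdo.2.1 hdo.2.2 n0 n1 n2 i01 i02 i12
    (hdeg d₀ 1 1 hd₀') (hdeg d₁ _ _ hd₁) (hdeg d₂ _ _ hd₂) (fun r => (hfull r).1)
    (fun r => (hfull r).2) hR
  simp [x, o, charDegree]

end CfsgLib.EightTwentyOne
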