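import Cfsg.Agent.EightTwentyOne.Columns
import Cfsg.Agent.AutFrattini.Basic
import Cfsg.Agent.Transfer.Basic
import Cfsg.Agent.Char.Linear
import Cfsg.Prelude.Def_Transfer
import Mathlib.GroupTheory.Subgroup.Simple

/-!
# The automizer of an elementary abelian Sylow 2-subgroup of order 8
-/

set_option autoImplicit false
set_option linter.unusedSectionVars false
set_option linter.style.haveILetI false

namespace CfsgLib.EightTwentyOne

open Cfsg CfsgLib.Block

universe u

section Eight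

variable {V : Type u} [Group V] [Finite V]

theorem card_aut_dvd (h8 : Nat.card V = 8) (hexp : ∀ v : V, v * v = 1) :
    Nat.card (MulAut V) ∣ 168 := by
  haveI : Fact (Nat.Prime 2) := ⟨Nat.prime_two⟩
  have hcomm : ∀ a b : V, a * b = b * a := fun a b => by
    have := hexp (a * b)
    calc a * b = a * (a * b * (a * b)) * b := by rw [this, mul_one]
      _ = a * a * (b * a) * (b * b) := by group
      _ = b * a := by rw [hexp, hexp, one_mul, mul_one]
  have hfr : frattini V = ⊥ := le_bot_iff.1 (CfsgLib.PGroupBasic.frattini_le_of_elementary (p := 2) ⊥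
    (by
      rw [commutator_def, Subgroup.commutator_le]
      intro a _ b _
      rw [Subgroup.mem_bot, commutatorElement_eq_one_iff_mul_comm]
      exact hcomm a b)
    fun a => Subgroup.mem_bot.2 (by simpa [pow_two] using hexp a))
  exact (CfsgLib.AutFrattini.card_mulAut_dvd (P := V) (p := 2) (r := 3) (n := 3)
    (by rw [h8]; norm_num) (by rw [hfr, Subgroup.index_bot, h8]; norm_num)).trans (by decide)

/-- The fixed points of an automorphism of order three or seven. -/
theorem card_fixed (h8 : Nat.card V = 8) {p : ℕ} [Fact p.Prime] {α : MulAut V}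
    (hα : orderOf α = p) (hp : p = 3 ∨ p = 7) :
    Nat.card {v : V // α v = v} = if p = 3 then 2 else 1 := by
  let F : Subgroup V :=
    { carrier := {v | α v = v}
      mul_mem' := fun {a b} (ha : α a = a) (hb : α b = b) => show α (a * b) = a * b by
        rw [map_mul, ha, hb]
      one_mem' := map_one α
      inv_mem' := fun {a} (ha : α a = a) => show α a⁻¹ = a⁻¹ by rw [map_inv, ha] }
  have hF : Nat.card F = Nat.card {v : V // α v = v} := rfl
  rw [← hF]
  have hd : Nat.card F ∣ 8 := h8 ▸ Subgroup.card_subgroup_dvd_card F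
  have hne : Nat.card F ≠ 8 := by
    intro h
    have htop := Subgroup.eq_top_of_card_eq F (h.trans h8.symm)
    have : α = 1 := MulEquiv.ext fun v => (htop ▸ Subgroup.mem_top v : v ∈ F)
    rw [this, orderOf_one] at hα
    omega
  have hpg : IsPGroup p (Subgroup.zpowers α) :=
    IsPGroup.of_card (n := 1) (by rw [Nat.card_zpowers, hα, pow_one])
  have hmod := hpg.card_modEq_card_fixedPoints V
  have hfix : Nat.card (MulAction.fixedPoints (Subgroup.zpowers α) V) = Nat.card F := by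
    refine Nat.card_congr (Equiv.subtypeEquivRight fun v => ?_)
    refine ⟨fun h => h ⟨α, Subgroup.mem_zpowers α⟩, fun h a => ?_⟩
    obtain ⟨a, i, rfl⟩ := a
    have hi : α ^ i ∈ MulAction.stabilizer (MulAut V) v :=
      Subgroup.zpow_mem _ (MulAction.mem_stabilizer_iff.2 (show α • v = v from h)) i
    exact hi
  rw [hfix, h8] at hmod
  have hle : Nat.card F ≤ 8 := Nat.le_of_dvd (by norm_num) hd
  unfold Nat.ModEq at hmod
  rcases hp with rfl | rfl <;> interval_cases h : Nat.card F <;> revert hd hmod hne <;> norm_num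

/-- An automorphism of order seven moves every nontrivial element to every other. -/
theorem exists_zpow_apply (h8 : Nat.card V = 8) {α : MulAut V} (hα : orderOf α = 7) {v w : V}
    (hv : v ≠ 1) (hw : w ≠ 1) : ∃ a ∈ Subgroup.zpowers α, a v = w := by
  haveI : Fact (Nat.Prime 7) := ⟨by norm_num⟩
  have hfix := card_fixed h8 hα (Or.inr rfl)
  simp only [show ¬ (7 : ℕ) = 3 by norm_num, if_false] at hfix
  obtain ⟨hsub, -⟩ := Nat.card_eq_one_iff_unique.1 hfix
  have hne : α v ≠ v := fun h => hv (congrArg Subtype.val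
    (hsub.elim (⟨v, h⟩ : {v : V // α v = v}) ⟨1, map_one α⟩))
  set O := MulAction.orbit (Subgroup.zpowers α) v
  have hd : Nat.card O ∣ 7 := by
    rw [← hα, ← Nat.card_zpowers, Nat.card_congr (MulAction.orbitEquivQuotientStabilizer _ v)]
    exact Subgroup.card_quotient_dvd_card _
  have h7 : Nat.card O = 7 := by
    refine ((Nat.dvd_prime Fact.out).1 hd).resolve_left fun h1 => hne ?_
    obtain ⟨hs, -⟩ := Nat.card_eq_one_iff_unique.1 h1
    exact congrArg Subtype.val (hs.elim (⟨α v, ⟨⟨α, Subgroup.mem_zpowers α⟩, rfl⟩⟩ : O)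
      ⟨v, MulAction.mem_orbit_self v⟩)
  have hsub' : O ⊆ {u : V | u ≠ 1} := by
    rintro u ⟨⟨a, ha⟩, rfl⟩ h
    exact hv (a.injective (by rw [map_one]; exact h))
  have hc : ({u : V | u ≠ 1} : Set V).ncard = 7 := by
    rw [show ({u : V | u ≠ 1} : Set V) = ({1} : Set V)ᶜ from rfl, Set.ncard_compl, h8,
      Set.ncard_singleton]
  have heq := Set.eq_of_subset_of_ncard_le hsub' (by rw [hc, ← h7, Nat.card_coe_set_eq])
  obtain ⟨⟨a, ha⟩, e⟩ := (heq.symm ▸ hw : w ∈ O)
  exact ⟨a, ha, e⟩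

/-- An odd subgroup of the automorphisms fixing a nontrivial element has order at most three. -/
theorem card_eq_three (h8 : Nat.card V = 8) (hexp : ∀ v : V, v * v = 1)
    (A : Subgroup (MulAut V)) (hA : ¬ 2 ∣ Nat.card A) {v : V} (hv : v ≠ 1)
    (hfix : ∀ a ∈ A, a v = v) {α : MulAut V} (hαA : α ∈ A) (hα : orderOf α = 3) :
    Nat.card A = 3 := by
  have hd : Nat.card A ∣ 168 := (Subgroup.card_subgroup_dvd_card A).trans (card_aut_dvd h8 hexp)
  have h3 : 3 ∣ Nat.card A := hα ▸ A.orderOf_dvd_natCard hαA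
  have h7 : ¬ 7 ∣ Nat.card A := by
    intro h
    haveI : Fact (Nat.Prime 7) := ⟨by norm_num⟩
    obtain ⟨β, hβ⟩ := exists_prime_orderOf_dvd_card' (G := A) 7 h
    have hfix' := card_fixed h8 (α := (β : MulAut V)) (p := 7)
      ((Subgroup.orderOf_coe β).trans hβ) (Or.inr rfl)
    simp only [show ¬ (7 : ℕ) = 3 by norm_num, if_false] at hfix'
    obtain ⟨hsub, -⟩ := Nat.card_eq_one_iff_unique.1 hfix'
    exact hv (congrArg Subtype.val (hsub.elim
      (⟨v, hfix _ β.2⟩ : {v : V // (β : MulAut V) v = v}) ⟨1, map_one _⟩))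
  have hle : Nat.card A ≤ 168 := Nat.le_of_dvd (by norm_num) hd
  have hdd := Nat.mem_divisors.2 ⟨hd, (by norm_num : (168 : ℕ) ≠ 0)⟩
  rw [show Nat.divisors 168 =
    {1, 2, 3, 4, 6, 7, 8, 12, 14, 21, 24, 28, 42, 56, 84, 168} by decide] at hdd
  simp only [Finset.mem_insert, Finset.mem_singleton] at hdd
  omega

end Eight

section Local

variable {C : Type u} [Group C] [Finite C]

/-- The counts modulo the odd core. -/
theorem section_count [Group.IsSolvable C] (P : Sylow 2 C) (h8 : Nat.card P = 8)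
    (hexp : ∀ x : P, x * x = 1) {t : C} (htP : t ∈ (P : Subgroup C)) (ht1 : t ≠ 1)
    (htc : ∀ c : C, c * t = t * c) {z : C} (hz : ¬ 2 ∣ orderOf z)
    (hzP : z ∈ Subgroup.normalizer ((P : Subgroup C) : Set C))
    (hz3 : z ^ 3 ∈ Subgroup.centralizer ((P : Subgroup C) : Set C))
    (hz1 : z ∉ Subgroup.centralizer ((P : Subgroup C) : Set C)) :
    z ^ 3 ∈ Cfsg.pPrimeCore 2 C ∧ ∀ i < 3, ∀ j < 3,
      Nat.card {c : C // c * z ^ j * c⁻¹ * (z ^ i)⁻¹ ∈ Cfsg.pPrimeCore 2 C} =
        Nat.card (Cfsg.pPrimeCore 2 C) * (if i = j then (if i = 0 then 24 else 6) else 0) := by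
  classical
  haveI : Fact (Nat.Prime 2) := ⟨Nat.prime_two⟩
  haveI : (Cfsg.pPrimeCore 2 C).Normal := CfsgLib.Solvable.pPrimeCore_normal 2
  haveI : Fintype C := Fintype.ofFinite _
  set O := Cfsg.pPrimeCore 2 C with hO
  have hO2 : ¬ 2 ∣ Nat.card O := Nat.prime_two.coprime_iff_not_dvd.1
    (CfsgLib.Solvable.coprime_card_pPrimeCore (G := C) 2).symm
  have hsc : CfsgLib.PConstrained.SelfCent 2 (C ⧸ O) := selfCent_quotient_of_solvable
  let π := QuotientGroup.mk' O
  have hπs : Function.Surjective π := QuotientGroup.mk'_surjective O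
  let Pb : Sylow 2 (C ⧸ O) := P.mapSurjective hπs
  have hPb : (Pb : Subgroup (C ⧸ O)) = (P : Subgroup C).map π := rfl
  have hinj : ∀ a ∈ (P : Subgroup C), ∀ b ∈ (P : Subgroup C), π a = π b → a = b := by
    intro a ha b hb hab
    have hK : a⁻¹ * b ∈ O := QuotientGroup.eq.1 hab
    by_contra hne
    have h2 : orderOf (a⁻¹ * b) = 2 := orderOf_eq_prime (by
      rw [pow_two]; exact congrArg Subtype.val (hexp ⟨_, mul_mem (inv_mem ha) hb⟩))
      fun h => hne (inv_mul_eq_one.1 h)
    exact hO2 (h2 ▸ O.orderOf_dvd_natCard hK)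
  have hexp' : ∀ x ∈ (Pb : Subgroup (C ⧸ O)), x * x = 1 := by
    rintro x ⟨a, ha, rfl⟩
    rw [← map_mul, show a * a = 1 from congrArg Subtype.val (hexp ⟨a, ha⟩), map_one]
  have hcomm : ∀ x ∈ (Pb : Subgroup (C ⧸ O)), ∀ y ∈ (Pb : Subgroup (C ⧸ O)), x * y = y * x := by
    intro x hx y hy
    have h3 := hexp' (x * y) (mul_mem hx hy)
    calc x * y = x * (x * y * (x * y)) * y := by rw [h3, mul_one]
      _ = (x * x) * (y * x) * (y * y) := by group
      _ = y * x := by rw [hexp' x hx, hexp' y hy, one_mul, mul_one]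
  have hcoreP : Cfsg.pCore 2 (C ⧸ O) ≤ (Pb : Subgroup (C ⧸ O)) := by
    haveI := CfsgLib.Solvable.pCore_normal (G := C ⧸ O) 2
    have := Pb.3 ((CfsgLib.Solvable.isPGroup_pCore (G := C ⧸ O) 2).to_sup_of_normal_left Pb.2)
      le_sup_right
    exact this ▸ le_sup_left
  have hPcore : (Pb : Subgroup (C ⧸ O)) = Cfsg.pCore 2 (C ⧸ O) := le_antisymm
    (fun x hx => hsc (Subgroup.mem_centralizer_iff.2 fun y hy => hcomm y (hcoreP hy) x hx)) hcoreP
  haveI hPn : (Pb : Subgroup (C ⧸ O)).Normal := hPcore ▸ CfsgLib.Solvable.pCore_normal 2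
  have hself : ∀ x : C ⧸ O, (∀ y ∈ (Pb : Subgroup (C ⧸ O)), y * x = x * y) →
      x ∈ (Pb : Subgroup (C ⧸ O)) := fun x hx => by
    rw [hPcore]
    exact hsc (Subgroup.mem_centralizer_iff.2 fun y hy => hx y (hcoreP hy))
  have hodd1 : ∀ x ∈ (Pb : Subgroup (C ⧸ O)), ¬ 2 ∣ orderOf x → x = 1 := by
    intro x hx hxo
    rw [← orderOf_eq_one_iff]
    rcases (Nat.dvd_prime Nat.prime_two).1 (orderOf_dvd_of_pow_eq_one
      (show x ^ 2 = 1 by rw [pow_two]; exact hexp' x hx)) with h | h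
    · exact h
    · rw [h] at hxo
      exact absurd dvd_rfl hxo
  have hodd : ∀ r : ℕ, ¬ 2 ∣ orderOf ((π z) ^ r) := fun r h =>
    hz ((h.trans (orderOf_pow_dvd r)).trans (orderOf_map_dvd π z))
  have hzb3 : π z ^ 3 = 1 := by
    refine hodd1 _ (hself _ ?_) (hodd 3)
    rintro y ⟨a, ha, rfl⟩
    rw [← map_pow, ← map_mul, ← map_mul, Subgroup.mem_centralizer_iff.1 hz3 a ha]
  have hzb1 : π z ∉ (Pb : Subgroup (C ⧸ O)) := by
    intro h
    refine hz1 (Subgroup.mem_centralizer_iff.2 fun a ha => ?_)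
    have h1 : π z = 1 := hodd1 _ h (by simpa using hodd 1)
    have h2 : π (z * a * z⁻¹) = π a := by rw [map_mul, map_mul, map_inv, h1]; group
    have h3 := hinj _ ((Subgroup.mem_normalizer_iff.1 hzP a).1 ha) a ha h2
    exact (mul_inv_eq_iff_eq_mul.1 h3).symm
  -- the order of the quotient
  let ψ : C ⧸ O →* MulAut (Pb : Subgroup (C ⧸ O)) := MulAut.conjNormal
  have hψ : ∀ x (y : (Pb : Subgroup (C ⧸ O))), ((ψ x y : (Pb : Subgroup (C ⧸ O))) : C ⧸ O) =
      x * y * x⁻¹ := fun x y => MulAut.conjNormal_apply x y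
  have hker : ψ.ker = (Pb : Subgroup (C ⧸ O)) := by
    ext x
    rw [MonoidHom.mem_ker]
    constructor
    · intro h
      refine hself x fun y hy => ?_
      have := hψ x ⟨y, hy⟩
      rw [h] at this
      exact (mul_inv_eq_iff_eq_mul.1 this.symm).symm
    · intro hx
      refine MulEquiv.ext fun y => Subtype.ext ?_
      rw [hψ, MulAut.one_apply, hcomm x hx y y.2, mul_inv_cancel_right]
  have hcardPb : Nat.card (Pb : Subgroup (C ⧸ O)) = 8 := by
    rw [← h8]
    refine (Nat.card_eq_of_bijective (fun a : (P : Subgroup C) =>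
      (⟨π a, a, a.2, rfl⟩ : (Pb : Subgroup (C ⧸ O)))) ⟨fun a b h => Subtype.ext
        (hinj _ a.2 _ b.2 (congrArg Subtype.val h)), fun ⟨x, a, ha, e⟩ => ⟨⟨a, ha⟩, Subtype.ext e⟩⟩).symm
  have hψz : orderOf (ψ (π z)) = 3 := by
    haveI : Fact (Nat.Prime 3) := ⟨Nat.prime_three⟩
    refine orderOf_eq_prime (by rw [← map_pow, hzb3, map_one]) fun h => hzb1 ?_
    rw [← hker]
    exact h
  have hA : Nat.card ψ.range = 3 := by
    refine card_eq_three (V := (Pb : Subgroup (C ⧸ O))) hcardPb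
      (fun v => Subtype.ext (hexp' v v.2)) ψ.range ?_ (v := ⟨π t, t, htP, rfl⟩) ?_ ?_
      ⟨π z, rfl⟩ hψz
    · rw [← Subgroup.index_ker, hker]
      exact Pb.not_dvd_index
    · intro h
      exact ht1 (hinj t htP 1 (one_mem _) (by rw [map_one]; exact congrArg Subtype.val h))
    · rintro _ ⟨x, rfl⟩
      refine Subtype.ext ?_
      rw [hψ]
      obtain ⟨c, rfl⟩ := hπs x
      show π c * π t * (π c)⁻¹ = π t
      rw [← map_mul, htc c, map_mul, mul_inv_cancel_right]
  have hQ : Nat.card (C ⧸ O) = 24 := by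
    rw [← Subgroup.card_mul_index (Pb : Subgroup (C ⧸ O)), hcardPb, ← hker, Subgroup.index_ker, hA]
  -- normal form
  have horder : orderOf (π z) = 3 := by
    haveI : Fact (Nat.Prime 3) := ⟨Nat.prime_three⟩
    exact orderOf_eq_prime hzb3 fun h => hzb1 (h ▸ one_mem _)
  have hpow : ∀ i < 3, ∀ j < 3, π z ^ i * (π z ^ j)⁻¹ ∈ (Pb : Subgroup (C ⧸ O)) → i = j := by
    intro i hi j hj h
    have e : π z ^ i * (π z ^ j)⁻¹ = π z ^ (i + (3 - j)) := by
      rw [pow_add, mul_left_cancel_iff, inv_eq_iff_mul_eq_one, ← pow_add,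
        show j + (3 - j) = 3 by omega, hzb3]
    rw [e] at h
    have h1 := hodd1 _ h (hodd _)
    rw [← orderOf_dvd_iff_pow_eq_one, horder] at h1
    omega
  let nf : ↥(Pb : Subgroup (C ⧸ O)) × Fin 3 → C ⧸ O := fun w => w.1 * π z ^ (w.2 : ℕ)
  have hnf : Function.Bijective nf := by
    refine Function.Injective.bijective_of_nat_card_le ?_
      (by rw [Nat.card_prod, hcardPb, Nat.card_fin, hQ])
    rintro ⟨a, i⟩ ⟨b, j⟩ h
    have hmem : π z ^ (i : ℕ) * (π z ^ (j : ℕ))⁻¹ ∈ (Pb : Subgroup (C ⧸ O)) := by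
      rw [show π z ^ (i : ℕ) * (π z ^ (j : ℕ))⁻¹ = (a : C ⧸ O)⁻¹ * b by
        rw [eq_inv_mul_iff_mul_eq, ← mul_assoc, mul_inv_eq_iff_eq_mul]; exact h]
      exact mul_mem (inv_mem a.2) b.2
    have e : i = j := Fin.ext (hpow _ i.2 _ j.2 hmem)
    subst e
    exact Prod.ext (Subtype.ext (mul_right_cancel h)) rfl
  -- counts in the quotient
  have hT : ∀ i < 3, ∀ j < 3, Nat.card {x : C ⧸ O // x * π z ^ j * x⁻¹ = π z ^ i} =
      if i = j then (if i = 0 then 24 else 6) else 0 := by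
    intro i hi j hj
    split_ifs with hij hi0
    · subst hij hi0
      rw [← hQ]
      exact Nat.card_congr (Equiv.subtypeUnivEquiv fun x => by simp)
    · subst hij
      haveI : Fact (Nat.Prime 3) := ⟨Nat.prime_three⟩
      have hgen : π z ∈ Subgroup.zpowers (π z ^ i) := by
        rcases (by omega : i = 1 ∨ i = 2) with rfl | rfl
        · simp
        · refine ⟨2, ?_⟩
          show (π z ^ 2) ^ (2 : ℤ) = π z
          rw [zpow_ofNat, ← pow_mul, show 2 * 2 = 3 + 1 from rfl, pow_succ, hzb3, one_mul]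
      let e : {v : (Pb : Subgroup (C ⧸ O)) // ψ (π z) v = v} × Fin 3 →
          {x : C ⧸ O // x * π z ^ i * x⁻¹ = π z ^ i} := fun w =>
        ⟨nf (w.1.1, w.2), by
          have hc : Commute (w.1.1 : C ⧸ O) (π z) := by
            have := hψ (π z) w.1.1
            rw [w.1.2] at this
            exact (mul_inv_eq_iff_eq_mul.1 this.symm).symm
          rw [mul_inv_eq_iff_eq_mul]
          exact (((hc.pow_right i).mul_left
            ((Commute.refl (π z)).pow_pow (w.2 : ℕ) i))).eq⟩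
      have he : Function.Bijective e := by
        refine ⟨fun a b h => ?_, fun x => ?_⟩
        · have := Prod.mk.inj (hnf.1 (congrArg Subtype.val h))
          exact Prod.ext (Subtype.ext this.1) this.2
        · obtain ⟨⟨v, r⟩, hv⟩ := hnf.2 x.1
          have hx : Commute (x.1) (π z ^ i) := mul_inv_eq_iff_eq_mul.1 x.2
          have hxz : Commute x.1 (π z) := by
            obtain ⟨k, hk⟩ := hgen
            have h' := hx.zpow_right k
            rwa [show (π z ^ i) ^ k = π z from hk] at h'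
          have hvz : Commute (v : C ⧸ O) (π z) := by
            have : (v : C ⧸ O) = x.1 * (π z ^ (r : ℕ))⁻¹ := by
              rw [← hv]; simp [nf]
            rw [this]
            exact hxz.mul_left ((Commute.refl (π z)).pow_left _).inv_left
          refine ⟨(⟨v, Subtype.ext ?_⟩, r), Subtype.ext hv⟩
          rw [hψ, hvz.symm.eq, mul_inv_cancel_right]
      rw [← Nat.card_eq_of_bijective e he, Nat.card_prod,
        card_fixed (V := (Pb : Subgroup (C ⧸ O))) hcardPb hψz (Or.inl rfl), Nat.card_fin]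
      simp
    · refine Nat.card_eq_zero.2 (Or.inl ⟨fun x => hij ?_⟩)
      obtain ⟨⟨v, r⟩, hv⟩ := hnf.2 x.1
      have hx := x.2
      rw [← hv] at hx
      refine hpow i hi j hj ?_
      have hmem := mul_mem v.2 (hPn.conj_mem _ (inv_mem v.2) (π z ^ j))
      convert hmem using 1
      rw [← hx]
      simp only [nf]
      have hc := ((Commute.refl (π z)).pow_pow (r : ℕ) j).eq
      calc (v : C ⧸ O) * π z ^ (r : ℕ) * π z ^ j * ((v : C ⧸ O) * π z ^ (r : ℕ))⁻¹ * (π z ^ j)⁻¹
          = (v : C ⧸ O) * (π z ^ (r : ℕ) * π z ^ j) * (π z ^ (r : ℕ))⁻¹ * (v : C ⧸ O)⁻¹ *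
              (π z ^ j)⁻¹ := by group
        _ = (v : C ⧸ O) * (π z ^ j * π z ^ (r : ℕ)) * (π z ^ (r : ℕ))⁻¹ * (v : C ⧸ O)⁻¹ *
              (π z ^ j)⁻¹ := by rw [hc]
        _ = _ := by group
  refine ⟨(QuotientGroup.eq_one_iff _).1 ((map_pow π z 3).trans hzb3), fun i hi j hj => ?_⟩
  rw [← hT i hi j hj]
  have e1 : Nat.card {c : C // c * z ^ j * c⁻¹ * (z ^ i)⁻¹ ∈ O} = Nat.card
      ((QuotientGroup.mk (s := O)) ⁻¹' {x : C ⧸ O | x * π z ^ j * x⁻¹ = π z ^ i}) := by
    refine Nat.card_congr (Equiv.subtypeEquivRight fun c => ?_)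
    show _ ↔ π c * π z ^ j * (π c)⁻¹ = π z ^ i
    rw [← map_pow, ← map_pow, ← map_inv, ← map_mul, ← map_mul, ← QuotientGroup.eq_one_iff,
      ← QuotientGroup.mk'_apply O, map_mul, map_inv, mul_inv_eq_one]
  rw [e1, Nat.card_congr (QuotientGroup.preimageMkEquivSubgroupProdSet O _), Nat.card_prod]
  rfl

end Local

end CfsgLib.EightTwentyOne
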